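import Cfsg.Agent.ChevGroup.Tits.PcChecks

/-!
The decidable predicates behind the covering of the Tits group by the square of one class.
-/

set_option autoImplicit false
set_option maxRecDepth 4000

namespace Cfsg.Agent.F4Cover55Tits

open Cfsg.Lie ChevCore Twisted Twisted.TypeF4 Twisted.Tits ChevGroup.TitsIdx ChevGroup.TitsMult

/-- A word conjugated by a product of letters. -/
def cw (a : List ℕ) (w : List (Fin MT.tab.n)) : List (Fin MT.tab.n) := wW a ++ w ++ (wW a).reverse

/-- The word of the base element of order five. -/
def xW : List (Fin MT.tab.n) := wW wA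

/-- A word is a product of two conjugates of the base element. -/
noncomputable def witB (g : List (Fin MT.tab.n)) (a b : List ℕ) : Bool := eqF g (cw a xW ++ cw b xW)

/-- The list of a code. -/
def dec (c : ℕ) : List ℕ := (List.range 11).filter fun i => c.testBit i

/-- Collection. -/
def col (w : List ℕ) : List ℕ := (tbl.collect 1000 (w, 0)).1

/-- The three families: the unipotent part and two cosets. -/
def cellW : ℕ → List (Fin MT.tab.n)
  | 0 => []
  | 1 => nkV 0
  | _ => nkV 1

/-- The word of a member of a family. -/
def memW (q c : ℕ) : List (Fin MT.tab.n) := cellW q ++ uW (dec c)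

/-- Moves. -/
inductive Step where
  | u (j : ℕ)
  | g
  | s (k : ℕ) (E : List ℕ)
  | n (i : ℕ)

/-- A move takes one code to another. -/
def stepB (q : ℕ) : Step → ℕ → ℕ → Bool
  | .u j, c, d => Nat.beq q 0 && decide (j < 11) && decide (col (dec c ++ [j]) = col (j :: dec d))
  | .g, c, d => Nat.beq q 0 && decide (col ((dec c).flatMap fun i => gamConj.getD i []) = col (dec d))
  | .s k E, c, d => Nat.beq q 0 && E.all (fun i => decide (i < tbl.sl.length) && decide ((tbl.S i).1 = k)) &&
      decide (col (tbl.qW E) = col (dec c)) && decide (col (tbl.fW E) = col (dec d))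
  | .n i, c, d => !Nat.beq q 0 && decide (i < tbl.sl.length) && decide (q = (if (tbl.S i).1 = 0 then 1 else 2)) &&
      decide (col (dec c ++ (tbl.S i).2.2) = col ((tbl.S i).2.1 ++ dec d))

/-- The moves starting from known codes. -/
def stepsB (q : ℕ) : List (ℕ × Step × ℕ) → ℕ → ℕ → Bool
  | [], known, fin => Nat.beq known fin
  | (c, m, d) :: r, known, fin => known.testBit d && stepB q m c d && stepsB q r (known ||| 2 ^ c) fin

/-- Every code of the mask has a witness. -/
def RepOK (q m : ℕ) : Prop := ∀ c, m.testBit c = true → ∃ a b, witB (memW q c) a b = true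

theorem RepOK.nil (q : ℕ) : RepOK q 0 := fun c h => by simp at h

theorem RepOK.cons {q m c : ℕ} {a b : List ℕ} (h : witB (memW q c) a b = true) (hm : RepOK q m) :
    RepOK q (m ||| 2 ^ c) := fun e he => by
  rw [Nat.testBit_or, Bool.or_eq_true, Nat.testBit_two_pow, decide_eq_true_eq] at he
  rcases he with he | rfl
  exacts [hm e he, ⟨a, b, h⟩]

/-- Search trees. -/
inductive PT where
  | lf
  | nd (l : PT) (p : ℕ) (r : PT)

/-- Membership. -/
def PT.mem : PT → ℕ → Bool
  | .lf, _ => false
  | .nd l p r, x => bif Nat.beq x p then true else bif Nat.blt x p then l.mem x else r.mem x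

/-- The members. -/
def PT.toList : PT → List ℕ
  | .lf => []
  | .nd l p r => l.toList ++ p :: r.toList

/-- An increasing list. -/
def incB : List ℕ → Bool
  | [] => true
  | [p] => Nat.blt p (2 ^ 52)
  | p :: q :: r => Nat.blt p q && incB (q :: r)

/-- One entry of a table of right multiplication. -/
noncomputable def stepEq (e : List (List (Fin MT.tab.n))) (g t : List ℕ) (i : ℕ) : Bool :=
  decide (t.getD i 0 < e.length) && eqF (e.getD i [] ++ wW g) (e.getD (t.getD i 0) [])

/-- A list of words starting with the empty word, separated by a vector. -/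
noncomputable def sepB (e : List (List (Fin MT.tab.n))) (c : ℕ) : Bool :=
  decide (e.head? = some []) && (e.all fun w => Nat.blt (appW (w.map Fin.val) (2 ^ c)) (2 ^ 52)) &&
    decide (e.map fun w => appW (w.map Fin.val) (2 ^ c)).Nodup

/-- A word keeps a set of vectors. -/
noncomputable def stableB (T : PT) (w : List (Fin MT.tab.n)) : Bool :=
  kall T.toList fun p => T.mem (appW (w.map Fin.val) p)

/-- The number of fixed vectors. -/
noncomputable def fixN (T : PT) (w : List (Fin MT.tab.n)) : ℕ :=
  T.toList.countP fun p => Nat.beq (appW (w.map Fin.val) p) p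

/-- The number of vectors whose sum with their image lies in the set. -/
noncomputable def sumN (T : PT) (w : List (Fin MT.tab.n)) : ℕ :=
  T.toList.countP fun p => T.mem (Nat.xor (appW (w.map Fin.val) p) p)

end Cfsg.Agent.F4Cover55Tits
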