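import Cfsg.Agent.F4Cover55Tits.Defs

/-!
Witnesses for representatives, part 1.
-/

set_option autoImplicit false
set_option maxRecDepth 8000

namespace Cfsg.Agent.F4Cover55Tits

theorem wit0_2 : witB (memW 0 2) [3] [3, 2, 0, 2, 0] = true := by decide +kernel

theorem wit0_24 : witB (memW 0 24) [0, 3] [1, 3, 0, 2, 1, 3] = true := by decide +kernel

theorem wit1_4 : witB (memW 1 4) [3, 4, 3, 4, 1, 3, 1] [4, 3, 1, 0, 4, 5, 3, 1] = true := by decide +kernel

theorem wit1_9 : witB (memW 1 9) [1, 4, 1, 3, 1, 4, 1, 3, 0] [4, 1, 0, 1, 3, 4, 0, 1, 3, 1] = true := by decide +kernel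

theorem wit2_1 : witB (memW 2 1) [1, 3] [3, 5, 1, 4, 3, 0, 4, 3, 0, 4, 3] = true := by decide +kernel

theorem wit2_64 : witB (memW 2 64) [2, 0, 4, 3, 4, 5, 3, 0, 4, 0, 3] [1, 0, 1, 3] = true := by decide +kernel

theorem wit2_10 : witB (memW 2 10) [1, 0, 2, 0, 4, 0, 3, 1] [5, 4, 3] = true := by decide +kernel

theorem wit2_11 : witB (memW 2 11) [3, 0, 5, 0, 4, 1, 3, 1, 0, 1, 4, 3] [4, 3] = true := by decide +kernel

end Cfsg.Agent.F4Cover55Tits
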