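import Cfsg.Agent.F4Cover55Tits.Defs

/-!
Witnesses for representatives, part 2.
-/

set_option autoImplicit false
set_option maxRecDepth 8000

namespace Cfsg.Agent.F4Cover55Tits

theorem wit0_512 : witB (memW 0 512) [] [3, 0, 2, 0, 5, 3, 5] = true := by decide +kernel

theorem wit0_80 : witB (memW 0 80) [] [1, 0, 2, 0, 5] = true := by decide +kernel

theorem wit1_8 : witB (memW 1 8) [4, 1, 0, 3, 4, 1, 0, 1, 3] [0, 3, 4, 5, 1, 0, 3] = true := by decide +kernel

theorem wit1_10 : witB (memW 1 10) [0, 3, 0, 1, 4, 3] [0, 4, 0, 3, 4, 0, 1, 3, 1, 0, 4, 0, 1, 3] = true := by decide +kernel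

theorem wit2_2 : witB (memW 2 2) [1, 4, 3] [0, 1, 0, 4, 2, 0, 3, 1] = true := by decide +kernel

theorem wit2_256 : witB (memW 2 256) [2, 4, 0, 3, 1] [0, 2, 4, 5, 3, 0] = true := by decide +kernel

theorem wit2_18 : witB (memW 2 18) [1, 4, 3, 0, 5] [0, 1, 4, 0, 3] = true := by decide +kernel

theorem wit2_14 : witB (memW 2 14) [1, 4, 3, 1, 0, 1, 0, 1, 0] [3, 0, 4, 3, 0, 4, 3] = true := by decide +kernel

end Cfsg.Agent.F4Cover55Tits
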