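import Cfsg.Agent.F4Cover55Tits.Defs

/-!
Witnesses for representatives, part 4.
-/

set_option autoImplicit false
set_option maxRecDepth 8000

namespace Cfsg.Agent.F4Cover55Tits

theorem wit0_9 : witB (memW 0 9) [4, 0, 3, 1] [1, 3, 1, 4, 0, 3, 0, 4, 0, 3] = true := by decide +kernel

theorem wit1_0 : witB (memW 1 0) [1, 0, 1, 3, 0] [0, 2, 1, 3, 0] = true := by decide +kernel

theorem wit1_32 : witB (memW 1 32) [0, 1, 3, 0] [1, 0, 5, 3, 0] = true := by decide +kernel

theorem wit1_24 : witB (memW 1 24) [0, 3, 5] [5, 0, 1, 3] = true := by decide +kernel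

theorem wit2_8 : witB (memW 2 8) [5, 0, 1, 0] [2, 0, 5, 0] = true := by decide +kernel

theorem wit2_3 : witB (memW 2 3) [3, 5, 0] [4, 3, 0, 1, 0, 4, 3, 0, 4, 0, 3] = true := by decide +kernel

theorem wit2_68 : witB (memW 2 68) [5, 3, 1, 0] [2, 0, 4, 3, 4, 1, 3, 0, 4, 0, 3] = true := by decide +kernel

theorem wit2_74 : witB (memW 2 74) [3] [1, 0, 4, 1, 0, 3, 4, 3, 0, 4, 3, 5] = true := by decide +kernel

end Cfsg.Agent.F4Cover55Tits
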