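import Cfsg.Agent.F4Cover55Tits.Defs

/-!
Witnesses for representatives, part 5.
-/

set_option autoImplicit false
set_option maxRecDepth 8000

namespace Cfsg.Agent.F4Cover55Tits

theorem wit0_12 : witB (memW 0 12) [0, 1, 4, 3, 0, 1] [3, 0, 4, 3, 0, 4, 0, 3, 5] = true := by decide +kernel

theorem wit1_1 : witB (memW 1 1) [4, 1, 3, 1, 4, 1, 0, 3] [1, 4, 3, 2, 4, 5, 3, 0] = true := by decide +kernel

theorem wit1_64 : witB (memW 1 64) [0, 3, 0, 5] [5, 0, 3] = true := by decide +kernel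

theorem wit1_257 : witB (memW 1 257) [1, 4, 3, 4, 3, 5, 0] [4, 0, 1, 3, 1, 4, 1, 0, 3] = true := by decide +kernel

theorem wit2_16 : witB (memW 2 16) [2, 0, 4, 0, 3] [2, 4, 1, 0, 1, 3, 0] = true := by decide +kernel

theorem wit2_5 : witB (memW 2 5) [1, 0, 3, 1, 0, 1] [0, 2, 4, 3, 0, 4, 3, 1, 0, 4, 3, 1] = true := by decide +kernel

theorem wit2_272 : witB (memW 2 272) [2, 4, 1, 3] [2, 4, 5, 3, 1] = true := by decide +kernel

end Cfsg.Agent.F4Cover55Tits
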