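import Cfsg.Agent.F4Cover55Tits.Wit0
import Cfsg.Agent.F4Cover55Tits.Wit1
import Cfsg.Agent.F4Cover55Tits.Wit2
import Cfsg.Agent.F4Cover55Tits.Wit3
import Cfsg.Agent.F4Cover55Tits.Wit4
import Cfsg.Agent.F4Cover55Tits.Wit5

/-!
The representatives of the three families.
-/

set_option autoImplicit false
set_option maxRecDepth 8000

namespace Cfsg.Agent.F4Cover55Tits

theorem reps0_ok : RepOK 0 0x100000000000000000000000000000000000000000000000000000000000000000000000000000000000000000000000000000000000100000000000001041a0e := by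
  have h := RepOK.cons wit0_11 (RepOK.cons wit0_80 (RepOK.cons wit0_24 (RepOK.cons wit0_18 (RepOK.cons wit0_12 (RepOK.cons wit0_9 (RepOK.cons wit0_3 (RepOK.cons wit0_512 (RepOK.cons wit0_2 (RepOK.cons wit0_1 (RepOK.nil 0))))))))))
  have e : (0 ||| 2 ^ 1 ||| 2 ^ 2 ||| 2 ^ 512 ||| 2 ^ 3 ||| 2 ^ 9 ||| 2 ^ 12 ||| 2 ^ 18 ||| 2 ^ 24 ||| 2 ^ 80 ||| 2 ^ 11 : ℕ) = 0x100000000000000000000000000000000000000000000000000000000000000000000000000000000000000000000000000000000000100000000000001041a0e := by decide +kernel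
  exact e ▸ h

theorem reps1_ok : RepOK 1 0x20000000000000000000000000000000000000000000000010000000101011737 := by
  have h := RepOK.cons wit1_257 (RepOK.cons wit1_24 (RepOK.cons wit1_12 (RepOK.cons wit1_10 (RepOK.cons wit1_9 (RepOK.cons wit1_5 (RepOK.cons wit1_64 (RepOK.cons wit1_32 (RepOK.cons wit1_16 (RepOK.cons wit1_8 (RepOK.cons wit1_4 (RepOK.cons wit1_2 (RepOK.cons wit1_1 (RepOK.cons wit1_0 (RepOK.nil 1))))))))))))))
  have e : (0 ||| 2 ^ 0 ||| 2 ^ 1 ||| 2 ^ 2 ||| 2 ^ 4 ||| 2 ^ 8 ||| 2 ^ 16 ||| 2 ^ 32 ||| 2 ^ 64 ||| 2 ^ 5 ||| 2 ^ 9 ||| 2 ^ 10 ||| 2 ^ 12 ||| 2 ^ 24 ||| 2 ^ 257 : ℕ) = 0x20000000000000000000000000000000000000000000000010000000101011737 := by decide +kernel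
  exact e ▸ h

theorem reps2_ok : RepOK 2 0x10000000000000000000000000000000000000000000000000000000000000000000000000000000000000000000000000000000000000000000000000000000400000000000000000000000000000000000000000000000000000000000100010000000000000000000000000000000000000000000004110000000504054f3f := by
  have h := RepOK.cons wit2_74 (RepOK.cons wit2_26 (RepOK.cons wit2_14 (RepOK.cons wit2_11 (RepOK.cons wit2_514 (RepOK.cons wit2_272 (RepOK.cons wit2_68 (RepOK.cons wit2_34 (RepOK.cons wit2_18 (RepOK.cons wit2_10 (RepOK.cons wit2_9 (RepOK.cons wit2_5 (RepOK.cons wit2_3 (RepOK.cons wit2_1024 (RepOK.cons wit2_256 (RepOK.cons wit2_64 (RepOK.cons wit2_32 (RepOK.cons wit2_16 (RepOK.cons wit2_8 (RepOK.cons wit2_4 (RepOK.cons wit2_2 (RepOK.cons wit2_1 (RepOK.cons wit2_0 (RepOK.nil 2)))))))))))))))))))))))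
  have e : (0 ||| 2 ^ 0 ||| 2 ^ 1 ||| 2 ^ 2 ||| 2 ^ 4 ||| 2 ^ 8 ||| 2 ^ 16 ||| 2 ^ 32 ||| 2 ^ 64 ||| 2 ^ 256 ||| 2 ^ 1024 ||| 2 ^ 3 ||| 2 ^ 5 ||| 2 ^ 9 ||| 2 ^ 10 ||| 2 ^ 18 ||| 2 ^ 34 ||| 2 ^ 68 ||| 2 ^ 272 ||| 2 ^ 514 ||| 2 ^ 11 ||| 2 ^ 14 ||| 2 ^ 26 ||| 2 ^ 74 : ℕ) = 0x10000000000000000000000000000000000000000000000000000000000000000000000000000000000000000000000000000000000000000000000000000000400000000000000000000000000000000000000000000000000000000000100010000000000000000000000000000000000000000000004110000000504054f3f := by decide +kernel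
  exact e ▸ h

end Cfsg.Agent.F4Cover55Tits
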