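import Cfsg.Agent.F4Cover55Tits.NormalForm
import Cfsg.Agent.F4Cover55Tits.Moves0
import Cfsg.Agent.F4Cover55Tits.Moves1
import Cfsg.Agent.F4Cover55Tits.Moves2
import Cfsg.Agent.F4Cover55Tits.Reps
import Cfsg.Agent.Twisted.F4BT.Main

/-!
The elements centralising a nontrivial two-element.
-/

set_option autoImplicit false
set_option maxRecDepth 4000

namespace Cfsg.Agent.F4Cover55Tits

open Cfsg.Lie ChevCore Twisted Twisted.TypeF4 Twisted.Tits ChevGroup.TitsIdx ChevGroup.TitsMult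
open ChevGroup

local notation "KK" => Cfsg.Agent.ChevGroup.relsOfCommGood ChevCore.commGoodF4 (ZMod 2)
local notation "G₁" => genG MT KK (f4Words (ZMod 2) (2 ^ 0))
local notation "DD" => Gens.data (gens fr card_two)

attribute [local irreducible] TG

theorem cov_zero : ∀ c, (mask0.getD 8 0).testBit c = true → Cov (ev (memW 0 c)) :=
  steps_spec moves0_7_ok <| steps_spec moves0_6_ok <| steps_spec moves0_5_ok <| steps_spec moves0_4_ok <|
  steps_spec moves0_3_ok <| steps_spec moves0_2_ok <| steps_spec moves0_1_ok <| steps_spec moves0_0_ok <|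
  fun c hc => reps_spec reps0_ok c hc

theorem cov_one : ∀ c, (mask1.getD 8 0).testBit c = true → Cov (ev (memW 1 c)) :=
  steps_spec moves1_7_ok <| steps_spec moves1_6_ok <| steps_spec moves1_5_ok <| steps_spec moves1_4_ok <|
  steps_spec moves1_3_ok <| steps_spec moves1_2_ok <| steps_spec moves1_1_ok <| steps_spec moves1_0_ok <|
  fun c hc => reps_spec reps1_ok c hc

theorem cov_two : ∀ c, (mask2.getD 8 0).testBit c = true → Cov (ev (memW 2 c)) :=
  steps_spec moves2_7_ok <| steps_spec moves2_6_ok <| steps_spec moves2_5_ok <| steps_spec moves2_4_ok <|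
  steps_spec moves2_3_ok <| steps_spec moves2_2_ok <| steps_spec moves2_1_ok <| steps_spec moves2_0_ok <|
  fun c hc => reps_spec reps2_ok c hc

theorem mask_full : mask0.getD 8 0 = (2 ^ 2048 - 1) ^^^ 1 ∧ mask1.getD 8 0 = 2 ^ 2048 - 1 ∧
    mask2.getD 8 0 = 2 ^ 2048 - 1 := by decide +kernel

theorem full_bit {c : ℕ} (hc : c < 2 ^ 11) : (2 ^ 2048 - 1 : ℕ).testBit c = true := by
  rw [Nat.testBit_two_pow_sub_one]
  exact decide_eq_true (by simpa using hc)

theorem cov_U {g : GG} (hU : g ∈ (DD).U1) (hT : g ∈ TG) (h1 : g ≠ 1) : Cov g := by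
  obtain ⟨c, hc, rfl⟩ := even_code hU hT
  have hc0 : c ≠ 0 := by
    rintro rfl
    exact h1 (by simp [dec, uW, ev])
  have h := cov_zero c (by
    rw [mask_full.1, Nat.testBit_xor, full_bit hc, Bool.eq_false_iff.2 fun e => hc0 (Nat.testBit_one_eq_true_iff_self_eq_zero.1 e)]; rfl)
  simpa [memW, cellW] using h

theorem cov_cell (k : Fin 2) {g : GG} (hU : g ∈ (DD).U1) (hT : g ∈ TG) : Cov (nj fr k * g) := by
  obtain ⟨c, hc, rfl⟩ := even_code hU hT
  rw [← ev_nkV, ← ev_append]
  fin_cases k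
  · exact cov_one c (mask_full.2.1.symm ▸ full_bit hc)
  · exact cov_two c (mask_full.2.2.symm ▸ full_bit hc)

theorem H1_bot : (DD).H1 = ⊥ := Subgroup.card_eq_one.1 (by rw [TypeF4.card_H1 fr card_two]; norm_num)

theorem B1_le : (DD).B1 ≤ (DD).U1 := by
  haveI : Finite ↥(DD).U1 := Nat.finite_of_card_ne_zero (by rw [card_U1]; norm_num)
  haveI : Finite ↥(DD).B1 := inferInstance
  have hle : (DD).U1 ≤ (DD).B1 := (DD).U1_le_B1
  refine (Subgroup.eq_of_le_of_card_ge hle ?_).ge
  rw [(DD).card_B1 (MT.shapeR KK) ((gens fr card_two).longest long_ok), H1_bot, Subgroup.card_bot, mul_one]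

theorem conj_mul_self {G : Type*} [Group G] (b n u : G) : b⁻¹ * (b * n * u) * b = n * (u * b) := by group

theorem conj_mem_TG {b g : GG} (hb : b ∈ G₁) (hg : g ∈ TG) : b⁻¹ * g * b ∈ TG := by
  obtain ⟨hgG, hgM⟩ := mem_TG.1 hg
  obtain ⟨p, p1, p2⟩ := exists_Mv hb
  have h := (p2.mul hgM).mul p1
  rw [Bool.xor_false, Bool.xor_self] at h
  exact mem_TG.2 ⟨mul_mem (mul_mem (inv_mem hb) hgG) hb, h⟩

theorem mem_right {G : Type*} [Group G] {H : Subgroup G} {n v : G} (hn : n ∈ H) (h : n * v ∈ H) : v ∈ H :=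
  (Subgroup.mul_mem_cancel_left H hn).1 h

theorem cell_case (k : Fin 2) {b u : GG} (hb : b ∈ (DD).U1) (hu : u ∈ (DD).U1)
    (hT : b * nj fr k * u ∈ TG) : Cov (b * nj fr k * u) := by
  have hbG : b ∈ G₁ := (Subgroup.mem_inf.1 hb).1
  have hm : nj fr k * (u * b) ∈ TG := conj_mul_self b (nj fr k) u ▸ conj_mem_TG hbG hT
  have hc := cov_cell k (mul_mem hu hb) (mem_right (n_mem k) hm)
  rw [← conj_mul_self b (nj fr k) u] at hc
  exact cov_of_conj (inv_mem hbG) (by rw [inv_inv]) hc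

theorem cov_par {k : Fin 2} {g : GG} (hP : g ∈ (DD).par1 [k]) (hT : g ∈ TG) (h1 : g ≠ 1) : Cov g := by
  have key : ∀ d : TStepData MT.tab.n 2, d.JS = [] → d.KS = [k] →
      (∀ c : Fin d.m, d.repF c = [] ∨ d.repF c = [k]) → orb.stepB MT.S d = true → Cov g := by
    intro d hJ hK hrep hd
    have hV := (gens fr card_two).valid hd
    have hc := (DD).step_cover (MT.shapeR KK) ((gens fr card_two).longest long_ok) (gens fr card_two).split
      hV (g := g) (show g ∈ (DD).par1 d.KS by rw [hK]; exact hP)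
    rw [Set.mem_iUnion] at hc
    obtain ⟨c, hc⟩ := hc
    rw [mem_cell] at hc
    obtain ⟨b, hb, e⟩ := hc
    rw [QuotientGroup.eq] at e
    have hJ' : (DD).par1 d.toStep.JS = (DD).B1 := by
      show (DD).par1 d.JS = _
      rw [hJ, (DD).par1_nil]
    rw [hJ'] at e
    set u := (b * (DD).nW (d.toStep.rep c))⁻¹ * g with hu
    have hub : b ∈ (DD).U1 := B1_le hb
    have huu : u ∈ (DD).U1 := B1_le e
    have eg : g = b * (DD).nW (d.toStep.rep c) * u := by rw [hu]; group
    rcases hrep c with h | h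
    · have : g ∈ (DD).U1 := by
        rw [eg, show d.toStep.rep c = [] from h, (DD).nW_nil, mul_one]
        exact mul_mem hub huu
      exact cov_U this hT h1
    · rw [show d.toStep.rep c = [k] from h, (DD).nW_cons, (DD).nW_nil, mul_one,
        show (DD).nJ k = nj fr k from rfl] at eg
      rw [eg] at hT ⊢
      exact cell_case k hub huu hT
  match k with
  | 0 => exact key step1 rfl rfl (by decide) step1_ok
  | 1 => exact key step1' rfl rfl (by decide) step1'_ok

/-- An element commuting with a nontrivial two-element. -/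
theorem cov_of_commute {g a : GG} (hg : g ∈ TG) (ha : a ∈ G₁) (ha1 : a ≠ 1) {j : ℕ}
    (hj : a ^ 2 ^ j = 1) (hag : a * g = g * a) (hg1 : g ≠ 1) : Cov g := by
  obtain ⟨hgG, hgM⟩ := mem_TG.1 hg
  obtain ⟨h, k, hk⟩ := twoElement_centralizer fr card_two (⟨a, ha⟩ : ↥G₁)
    (fun e => ha1 (congrArg Subtype.val e)) (j := j) (Subtype.ext hj)
  have hb := hk ⟨g, hgG⟩ (Subtype.ext hag)
  set h' : GG := (h : GG)
  have hb' : h'⁻¹ * g * h' ∈ (DD).par1 [k] := hb
  have hT : h'⁻¹ * g * h' ∈ TG := by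
    obtain ⟨p, p1, p2⟩ := exists_Mv h.2
    have := (p2.mul hgM).mul p1
    rw [Bool.xor_false, Bool.xor_self] at this
    exact mem_TG.2 ⟨mul_mem (mul_mem (inv_mem h.2) hgG) h.2, this⟩
  refine cov_of_conj (inv_mem h.2) ?_ (cov_par hb' hT fun e => hg1 ?_)
  · simp only [h', inv_inv]
  · calc g = h' * (h'⁻¹ * g * h') * h'⁻¹ := by group
      _ = 1 := by rw [e]; group

end Cfsg.Agent.F4Cover55Tits
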