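import Cfsg.Agent.F4Cover55Tits.Moves

/-!
Normal forms in the even part of the unipotent group.
-/

set_option autoImplicit false
set_option maxRecDepth 4000

namespace Cfsg.Agent.F4Cover55Tits

open Cfsg.Lie ChevCore Twisted Twisted.TypeF4 Twisted.Tits ChevGroup.TitsIdx ChevGroup.TitsMult

local notation "KK" => Cfsg.Agent.ChevGroup.relsOfCommGood ChevCore.commGoodF4 (ZMod 2)
local notation "G₁" => genG MT KK (f4Words (ZMod 2) (2 ^ 0))
local notation "DD" => Gens.data (gens fr card_two)

/-- Every element of a tail is an increasing product. -/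
theorem tail_sorted {G : Type*} [Group G] {D : ChevGroup.PcLift.Tbl} {l : ℕ → G} (hok : D.ok = true)
    (hrel : Rel D l) :
    ∀ m, ∀ g ∈ ChevGroup.PcLift.tail D l (D.n - m), ∃ w : List ℕ,
      w.Pairwise (· < ·) ∧ (∀ x ∈ w, D.n - m ≤ x ∧ x < D.n) ∧ g = ChevGroup.PcLift.evW l w
  | 0, g, hg => by
    have e : ChevGroup.PcLift.tail D l D.n = ⊥ := by
      rw [ChevGroup.PcLift.tail, Subgroup.closure_eq_bot_iff]
      rintro x ⟨k, h1, h2, -⟩
      omega
    rw [Nat.sub_zero, e, Subgroup.mem_bot] at hg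
    exact ⟨[], List.Pairwise.nil, by simp, hg⟩
  | m + 1, g, hg => by
    have ih := tail_sorted hok hrel m
    by_cases hm : D.n - m = 0
    · rw [show D.n - (m + 1) = D.n - m by omega] at hg ⊢
      exact ih g hg
    obtain ⟨i, hi⟩ : ∃ i, D.n - m = i + 1 := ⟨D.n - m - 1, by omega⟩
    rw [show D.n - (m + 1) = i by omega] at hg ⊢
    rw [hi] at ih
    have hin : i < D.n := by omega
    simp only [ChevGroup.PcLift.Tbl.ok, Bool.and_eq_true, List.all_eq_true, List.mem_range, decide_eq_true_eq] at hok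
    obtain ⟨⟨⟨hsh, -⟩, -⟩, -⟩ := hok
    set S := ChevGroup.PcLift.tail D l (i + 1)
    set c := (l i)⁻¹ with hc
    have hconj : ∀ g ∈ S, c * g * c⁻¹ ∈ S := by
      intro g hg
      induction hg using Subgroup.closure_induction with
      | mem x hx =>
        obtain ⟨k, hk1, hk2, rfl⟩ := hx
        have h1 := hrel k hk2 i (by omega)
        have h2 := (hsh k hk2 i (by omega)).2
        rw [if_neg (by omega)] at h2
        simp only [Bool.and_eq_true, decide_eq_true_eq, List.all_eq_true] at h2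
        obtain ⟨r, hr⟩ : ∃ r, D.R k i = i :: r := by
          rcases hR : D.R k i with _ | ⟨b, r⟩
          · simp [hR] at h2
          · exact ⟨r, by simp_all⟩
        rw [hc, inv_inv, mul_assoc, h1, hr, ChevGroup.PcLift.evW_cons, inv_mul_cancel_left]
        exact ChevGroup.PcLift.evW_mem_tail D l fun y hy => by
          have := h2.2 y (by rw [hr]; exact hy)
          omega
      | one => simp
      | mul a b _ _ ha hb =>
        rw [show c * (a * b) * c⁻¹ = (c * a * c⁻¹) * (c * b * c⁻¹) by group]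
        exact mul_mem ha hb
      | inv a _ ha =>
        rw [show c * a⁻¹ * c⁻¹ = (c * a * c⁻¹)⁻¹ by group]
        exact inv_mem ha
    have hsq : c * c ∈ S := by
      rw [hc, ← mul_inv_rev]
      refine inv_mem ?_
      rw [hrel i hin i le_rfl]
      have h2 := (hsh i hin i (by omega)).2
      simp only [if_true, List.all_eq_true, decide_eq_true_eq] at h2
      exact ChevGroup.PcLift.evW_mem_tail D l fun y hy => by have := h2 y hy; omega
    rcases ChevGroup.TitsIdx.mem_or_mul_mem hconj hsq (s := {x | ∃ k, i ≤ k ∧ k < D.n ∧ l k = x}) (by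
        rintro x ⟨k, hk1, hk2, rfl⟩
        rcases Nat.eq_or_lt_of_le hk1 with rfl | hlt
        · exact Or.inr (by rw [hc, mul_inv_cancel]; exact one_mem _)
        · exact Or.inl (Subgroup.subset_closure ⟨k, hlt, hk2, rfl⟩)) g hg with h | h
    · obtain ⟨w, hw, hb, e⟩ := ih g h
      exact ⟨w, hw, fun x hx => ⟨by have := (hb x hx).1; omega, (hb x hx).2⟩, e⟩
    · have h' := hconj _ h
      rw [show c * (g * c) * c⁻¹ = c * g by group] at h'
      obtain ⟨w, hw, hb, e⟩ := ih _ h'
      refine ⟨i :: w, List.pairwise_cons.2 ⟨fun x hx => by have := (hb x hx).1; omega, hw⟩, ?_, ?_⟩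
      · intro x hx
        rcases List.mem_cons.1 hx with rfl | hx
        · exact ⟨le_rfl, hin⟩
        · exact ⟨by have := (hb x hx).1; omega, (hb x hx).2⟩
      · rw [ChevGroup.PcLift.evW_cons, ← e, hc, mul_inv_cancel_left]

/-- Codes of increasing lists. -/
theorem exists_code {w : List ℕ} (hw : w.Pairwise (· < ·)) (hb : ∀ x ∈ w, x < 11) :
    ∃ c < 2 ^ 11, dec c = w := by
  refine ⟨w.foldr (fun x m => 2 ^ x ||| m) 0, ?_, ?_⟩
  · induction w with
    | nil => norm_num
    | cons x w ih =>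
      exact Nat.or_lt_two_pow (Nat.pow_lt_pow_right (by norm_num) (hb x (List.mem_cons_self ..)))
        (ih (List.pairwise_cons.1 hw).2 fun y hy => hb y (List.mem_cons_of_mem _ hy))
  · have hbit : ∀ (v : List ℕ) (i : ℕ), (v.foldr (fun x m => 2 ^ x ||| m) 0).testBit i = decide (i ∈ v) := by
      intro v i
      induction v with
      | nil => simp
      | cons x v ih => simp [Nat.testBit_two_pow, ih, eq_comm]
    have h1 : (dec (w.foldr (fun x m => 2 ^ x ||| m) 0)).Pairwise (· < ·) :=
      List.pairwise_lt_range.filter _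
    refine List.Perm.eq_of_pairwise (fun a b _ _ h h' => absurd h' (Nat.lt_asymm h)) h1 hw
      ((List.perm_ext_iff_of_nodup (h1.imp fun h => Nat.ne_of_lt h) (hw.imp fun h => Nat.ne_of_lt h)).2
        fun a => ?_)
    simp only [dec, List.mem_filter, List.mem_range, hbit, decide_eq_true_eq]
    exact ⟨fun h => h.2, fun h => ⟨hb a h, h⟩⟩

theorem even_mem_tail {g : GG} (hU : g ∈ (DD).U1) (hT : g ∈ TG) : g ∈ ChevGroup.PcLift.tail tbl uG 0 := by
  haveI : Finite ↥TG := finite_TG
  set T : Subgroup GG := ((DD).U1.subgroupOf TG).map TG.subtype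
  have hmap : (ChevGroup.PcLift.tail tbl uT 0).map TG.subtype = ChevGroup.PcLift.tail tbl uG 0 := by
    refine (MonoidHom.map_closure _ _).trans (congrArg Subgroup.closure (Set.ext fun x => ?_))
    constructor
    · rintro ⟨_, ⟨k, h1, h2, rfl⟩, rfl⟩
      exact ⟨k, h1, h2, rfl⟩
    · rintro ⟨k, h1, h2, rfl⟩
      exact ⟨uT k, ⟨k, h1, h2, rfl⟩, rfl⟩
  have hle : ChevGroup.PcLift.tail tbl uT 0 ≤ (DD).U1.subgroupOf TG := by
    refine (Subgroup.closure_le _).2 ?_
    rintro x ⟨k, -, -, rfl⟩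
    exact Subgroup.mem_subgroupOf.2 (uw_even k).1
  have e : ChevGroup.PcLift.tail tbl uT 0 = (DD).U1.subgroupOf TG :=
    Subgroup.eq_of_le_of_card_ge hle (by rw [card_TU]; exact card_tail_ge)
  rw [← hmap, e]
  exact ⟨⟨g, hT⟩, Subgroup.mem_subgroupOf.2 hU, rfl⟩

/-- Elements of the even part as codes. -/
theorem even_code {g : GG} (hU : g ∈ (DD).U1) (hT : g ∈ TG) : ∃ c < 2 ^ 11, g = ev (uW (dec c)) := by
  have h := tail_sorted tbl_ok uG_rel tbl.n g (by rw [Nat.sub_self]; exact even_mem_tail hU hT)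
  obtain ⟨w, hw, hb, rfl⟩ := h
  obtain ⟨c, hc, rfl⟩ := exists_code hw fun x hx => (hb x hx).2
  exact ⟨c, hc, evW_uG _⟩

end Cfsg.Agent.F4Cover55Tits
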