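import Cfsg.Agent.F4Cover55Tits.Points

/-!
The invariant set is kept by the generators.
-/

set_option autoImplicit false
set_option maxRecDepth 8000

namespace Cfsg.Agent.F4Cover55Tits

open Cfsg.Lie ChevCore Twisted Twisted.TypeF4 Twisted.Tits ChevGroup.TitsIdx ChevGroup.TitsMult

theorem stable_uw0 : stableB ptsT (uw 0) = true := by decide +kernel

theorem stable_uw1 : stableB ptsT (uw 1) = true := by decide +kernel

theorem stable_uw2 : stableB ptsT (uw 2) = true := by decide +kernel

theorem stable_uw3 : stableB ptsT (uw 3) = true := by decide +kernel

theorem stable_uw4 : stableB ptsT (uw 4) = true := by decide +kernel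

theorem stable_uw5 : stableB ptsT (uw 5) = true := by decide +kernel

theorem stable_uw6 : stableB ptsT (uw 6) = true := by decide +kernel

theorem stable_uw7 : stableB ptsT (uw 7) = true := by decide +kernel

theorem stable_uw8 : stableB ptsT (uw 8) = true := by decide +kernel

theorem stable_uw9 : stableB ptsT (uw 9) = true := by decide +kernel

theorem stable_uw10 : stableB ptsT (uw 10) = true := by decide +kernel

end Cfsg.Agent.F4Cover55Tits
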