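import Cfsg.Agent.F4Cover55Tits.PointsOk
import Cfsg.Agent.F4Cover55Tits.Stable
import Cfsg.Agent.F4Cover55Tits.NormalForm

/-!
The invariant set of vectors and the counts of fixed vectors of commuting elements.
-/

set_option autoImplicit false
set_option maxRecDepth 4000

namespace Cfsg.Agent.F4Cover55Tits

open Cfsg.Lie ChevCore Twisted Twisted.TypeF4 Twisted.Tits ChevGroup.TitsIdx ChevGroup.TitsMult
open scoped Matrix

theorem mem_of_memT : ∀ {T : PT} {x : ℕ}, T.mem x = true → x ∈ T.toList
  | .lf, x, h => by simp [PT.mem] at h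
  | .nd l p r, x, h => by
    rw [PT.mem] at h
    cases e1 : Nat.beq x p
    · rw [e1] at h
      cases e2 : Nat.blt x p <;> rw [e2] at h <;>
        simp [PT.toList, mem_of_memT h]
    · simp [PT.toList, Nat.eq_of_beq_eq_true e1]

theorem inc_spec : ∀ {l : List ℕ}, incB l = true → l.Pairwise (· < ·) ∧ ∀ p ∈ l, p < 2 ^ 52
  | [], _ => ⟨List.Pairwise.nil, by simp⟩
  | [p], h => ⟨List.pairwise_singleton _ _, by simpa [incB] using h⟩
  | p :: q :: r, h => by
    simp only [incB, Bool.and_eq_true, Nat.blt_eq] at h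
    obtain ⟨hs, hb⟩ := inc_spec h.2
    refine ⟨List.pairwise_cons.2 ⟨fun x hx => ?_, hs⟩, fun x hx => ?_⟩
    · rcases List.mem_cons.1 hx with rfl | hx
      · exact h.1
      · exact h.1.trans ((List.pairwise_cons.1 hs).1 x hx)
    · rcases List.mem_cons.1 hx with rfl | hx
      · exact h.1.trans (hb q (List.mem_cons_self ..))
      · exact hb x hx

/-- The vectors. -/
abbrev V := chevF4.Idx → ZMod 2

/-- The action. -/
noncomputable def act (g : GG) (v : V) : V := ChevGroup.Model.mat g *ᵥ v

theorem act_mul (g h : GG) (v : V) : act (g * h) v = act g (act h v) := by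
  rw [act, act, act, ChevGroup.Model.mat_mul, Matrix.mulVec_mulVec]

theorem act_one (v : V) : act 1 v = v := by simp [act, ChevGroup.Model.mat]

theorem act_add (g : GG) (v w : V) : act g (v + w) = act g v + act g w := Matrix.mulVec_add ..

theorem act_inj (g : GG) : Function.Injective (act g) := fun v w h => by
  have := congrArg (act g⁻¹) h
  rwa [← act_mul, ← act_mul, inv_mul_cancel, act_one, act_one] at this

theorem act_word (w : List (Fin MT.tab.n)) (p : ℕ) :
    act (ev w) (toVec p) = toVec (appW (w.map Fin.val) p) := by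
  rw [act, appW_spec _ (fun r hr => by
    obtain ⟨s, -, rfl⟩ := List.mem_map.1 hr
    exact s.isLt), mat_ev]

/-- The invariant set. -/
noncomputable def pts : Finset V := (ptsT.toList.map toVec).toFinset

theorem mem_pts {v : V} : v ∈ pts ↔ ∃ p ∈ ptsT.toList, toVec p = v := by simp [pts]

theorem pts_lt {p : ℕ} (h : p ∈ ptsT.toList) : p < 2 ^ 52 := (inc_spec pts_ok).2 p h

theorem card_filter_pts (P : V → Prop) [DecidablePred P] (f : ℕ → Bool)
    (hf : ∀ p ∈ ptsT.toList, (P (toVec p) ↔ f p = true)) :
    (pts.filter P).card = ptsT.toList.countP f := by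
  have hn : ptsT.toList.Nodup := (inc_spec pts_ok).1.imp fun h => Nat.ne_of_lt h
  have e : pts.filter P = ((ptsT.toList.filter f).map toVec).toFinset := by
    ext v
    simp only [Finset.mem_filter, mem_pts, List.mem_toFinset, List.mem_map, List.mem_filter]
    constructor
    · rintro ⟨⟨p, hp, rfl⟩, hP⟩
      exact ⟨p, ⟨hp, (hf p hp).1 hP⟩, rfl⟩
    · rintro ⟨p, ⟨hp, hfp⟩, rfl⟩
      exact ⟨⟨p, hp, rfl⟩, (hf p hp).2 hfp⟩
  rw [e, List.toFinset_card_of_nodup, List.length_map, List.countP_eq_length_filter]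
  exact (hn.filter _).map_on fun a ha b hb h =>
    toVec_inj (pts_lt (List.mem_filter.1 ha).1) (pts_lt (List.mem_filter.1 hb).1) h

attribute [local irreducible] TG pts ptsT

theorem surj_on {α : Type*} (f : α → α) (hf : Function.Injective f) (S : Finset α) (h : ∀ v ∈ S, f v ∈ S)
    {v : α} (hv : v ∈ S) : ∃ w ∈ S, f w = v := by
  classical
  have e : S.image f = S := Finset.eq_of_subset_of_card_le
    (Finset.image_subset_iff.2 h) (by rw [Finset.card_image_of_injective _ hf])
  rw [← e] at hv
  simpa using hv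

/-- Keeping the set. -/
def Keeps (g : GG) : Prop := ∀ v ∈ pts, act g v ∈ pts

theorem keeps_word {w : List (Fin MT.tab.n)} (h : stableB ptsT w = true) : Keeps (ev w) := by
  intro v hv
  obtain ⟨p, hp, rfl⟩ := mem_pts.1 hv
  rw [stableB, kall_iff] at h
  exact mem_pts.2 ⟨_, mem_of_memT (h p hp), (act_word w p).symm⟩

theorem keeps_inv {a : GG} (ha : Keeps a) : Keeps a⁻¹ := by
  intro v hv
  obtain ⟨w, hw, e⟩ := surj_on (act a) (act_inj a) pts ha hv
  have e2 : act a⁻¹ v = w := by rw [← e, ← act_mul, inv_mul_cancel, act_one]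
  exact e2 ▸ hw

theorem keeps_TG {g : GG} (hg : g ∈ TG) : Keeps g := by
  haveI : Finite ↥TG := finite_TG
  let S : Subgroup GG :=
    { carrier := {g | Keeps g}
      one_mem' := fun v hv => by rwa [act_one]
      mul_mem' := fun {a b} ha hb v hv => by rw [act_mul]; exact ha _ (hb v hv)
      inv_mem' := fun {a} ha => keeps_inv ha }
  refine (Subgroup.closure_le S).2 ?_ (TG_le hg)
  rintro x (hx | ⟨k, rfl⟩)
  · obtain ⟨c, -, rfl⟩ := even_code hx.1 hx.mem
    rw [← evW_uG]
    refine list_prod_mem fun y hy => ?_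
    obtain ⟨i, hi, rfl⟩ := List.mem_map.1 hy
    have h11 : i < 11 := dec_lt hi
    show Keeps (ev (uw i))
    interval_cases i
    exacts [keeps_word stable_uw0, keeps_word stable_uw1, keeps_word stable_uw2, keeps_word stable_uw3,
      keeps_word stable_uw4, keeps_word stable_uw5, keeps_word stable_uw6, keeps_word stable_uw7,
      keeps_word stable_uw8, keeps_word stable_uw9, keeps_word stable_uw10]
  · have h := stable_nk
    rw [Bool.and_eq_true] at h
    show Keeps (nj fr k)
    rw [← ev_nkV]
    fin_cases k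
    exacts [keeps_word h.1, keeps_word h.2]

theorem mask_ok : (Twisted.Tits.tbl.all fun L => L.all fun e => Nat.blt e.2 (2 ^ 52)) = true := by
  decide +kernel

theorem app_lt (r : ℕ) {n : ℕ} (hn : n < 2 ^ 52) : app r n < 2 ^ 52 := by
  have h : ∀ e ∈ Twisted.Tits.tbl.getD r [], e.2 < 2 ^ 52 := by
    intro e he
    have hm := mask_ok
    simp only [List.all_eq_true, Nat.blt_eq] at hm
    by_cases hr : r < Twisted.Tits.tbl.length
    · rw [List.getD_eq_getElem _ _ hr] at he
      exact hm _ (List.getElem_mem hr) e he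
    · rw [List.getD_eq_default _ _ (by omega)] at he
      cases he
  rw [app]
  generalize Twisted.Tits.tbl.getD r [] = L at h
  induction L with
  | nil => exact hn
  | cons e L ih =>
    show (bif n.testBit e.1 then e.2 ^^^ _ else _) < 2 ^ 52
    cases n.testBit e.1
    · exact ih fun x hx => h x (List.mem_cons_of_mem _ hx)
    · exact Nat.xor_lt_two_pow (h e (List.mem_cons_self ..)) (ih fun x hx => h x (List.mem_cons_of_mem _ hx))

theorem appW_lt_pts : ∀ (w : List (Fin MT.tab.n)) {p : ℕ}, p < 2 ^ 52 → appW (w.map Fin.val) p < 2 ^ 52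
  | [], p, hp => hp
  | r :: w, p, hp => by
    have he : appW ((r :: w).map Fin.val) p = app r.val (appW (w.map Fin.val) p) := forceN_eq _ _
    rw [he]
    exact app_lt _ (appW_lt_pts w hp)

theorem memT_of_mem : ∀ {T : PT}, T.toList.Pairwise (· < ·) → ∀ {x : ℕ}, x ∈ T.toList → T.mem x = true
  | .lf, _, x, h => by simp [PT.toList] at h
  | .nd l p r, hs, x, h => by
    rw [PT.toList, List.pairwise_append] at hs
    obtain ⟨hl, hr, hlr⟩ := hs
    rw [List.pairwise_cons] at hr
    rw [PT.mem]
    simp only [PT.toList, List.mem_append, List.mem_cons] at h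
    rcases h with h | rfl | h
    · have hlt : x < p := hlr x h p (List.mem_cons_self ..)
      rw [show Nat.beq x p = false from Bool.eq_false_iff.2 fun e => Nat.ne_of_lt hlt (Nat.eq_of_beq_eq_true e), cond_false,
        show Nat.blt x p = true from Nat.blt_eq.mpr hlt, cond_true]
      exact memT_of_mem hl h
    · simp
    · have hlt : p < x := hr.1 x h
      rw [show Nat.beq x p = false from Bool.eq_false_iff.2 fun e => Nat.ne_of_gt hlt (Nat.eq_of_beq_eq_true e), cond_false,
        show Nat.blt x p = false from Bool.eq_false_iff.2 fun e => Nat.lt_asymm hlt (Nat.blt_eq.mp e), cond_false]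
      exact memT_of_mem hr.2 h

section
open Classical

/-- The fixed vectors of an element. -/
noncomputable def fixS (g : GG) : Finset V := pts.filter fun v => act g v = v

/-- The vectors whose sum with their image is again in the set. -/
noncomputable def sumS (g : GG) : Finset V := pts.filter fun v => act g v + v ∈ pts

theorem fixS_card {w : List ℕ} : (fixS (ev (wW w))).card = fixN ptsT (wW w) := by
  refine card_filter_pts _ _ fun p hp => ?_
  obtain ⟨q, hq, e⟩ := mem_pts.1 (keeps_TG (wW_mem w) _ (mem_pts.2 ⟨p, hp, rfl⟩))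
  rw [act_word]
  constructor
  · intro h
    have hlt : appW ((wW w).map Fin.val) p < 2 ^ 52 := appW_lt_pts (wW w) (pts_lt hp)
    rw [toVec_inj hlt (pts_lt hp) h]
    exact Nat.beq_refl p
  · intro h
    rw [Nat.eq_of_beq_eq_true h]

theorem sumS_card {w : List ℕ} : (sumS (ev (wW w))).card = sumN ptsT (wW w) := by
  refine card_filter_pts _ _ fun p hp => ?_
  rw [act_word, show toVec (appW ((wW w).map Fin.val) p) + toVec p =
    toVec (Nat.xor (appW ((wW w).map Fin.val) p) p) from (toVec_xor _ _).symm]
  constructor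
  · intro h
    obtain ⟨q, hq, e⟩ := mem_pts.1 h
    have hlt := Nat.xor_lt_two_pow (appW_lt_pts (wW w) (pts_lt hp)) (pts_lt hp)
    obtain rfl : q = Nat.xor (appW ((wW w).map Fin.val) p) p := toVec_inj (pts_lt hq) hlt e
    exact memT_of_mem (inc_spec pts_ok).1 hq
  · exact fun h => mem_pts.2 ⟨_, mem_of_memT h, rfl⟩

end

end Cfsg.Agent.F4Cover55Tits
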