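import Cfsg.Agent.F4Cover55Tits.Sylow

/-!
Multiplication tables of the Sylow subgroups, part 1.
-/

set_option autoImplicit false
set_option maxRecDepth 8000

namespace Cfsg.Agent.F4Cover55Tits

open ChevGroup.TitsMult

theorem t3X_1 : stepEq e3 wX t3X 1 = true := by decide +kernel

theorem t3X_9 : stepEq e3 wX t3X 9 = true := by decide +kernel

theorem t3X_17 : stepEq e3 wX t3X 17 = true := by decide +kernel

theorem t3X_25 : stepEq e3 wX t3X 25 = true := by decide +kernel

theorem t3Y_6 : stepEq e3 wY t3Y 6 = true := by decide +kernel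

theorem t3Y_14 : stepEq e3 wY t3Y 14 = true := by decide +kernel

theorem t3Y_22 : stepEq e3 wY t3Y 22 = true := by decide +kernel

theorem t5A_3 : stepEq e5 wA t5A 3 = true := by decide +kernel

theorem t5A_11 : stepEq e5 wA t5A 11 = true := by decide +kernel

theorem t5A_19 : stepEq e5 wA t5A 19 = true := by decide +kernel

theorem t5B_2 : stepEq e5 wB t5B 2 = true := by decide +kernel

theorem t5B_10 : stepEq e5 wB t5B 10 = true := by decide +kernel

theorem t5B_18 : stepEq e5 wB t5B 18 = true := by decide +kernel

theorem t13D_1 : stepEq e13 wD t13D 1 = true := by decide +kernel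

theorem t13D_9 : stepEq e13 wD t13D 9 = true := by decide +kernel


end Cfsg.Agent.F4Cover55Tits
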