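import Cfsg.Agent.F4Cover55Tits.Sylow

/-!
Multiplication tables of the Sylow subgroups, part 2.
-/

set_option autoImplicit false
set_option maxRecDepth 8000

namespace Cfsg.Agent.F4Cover55Tits

open ChevGroup.TitsMult

theorem t3X_2 : stepEq e3 wX t3X 2 = true := by decide +kernel

theorem t3X_10 : stepEq e3 wX t3X 10 = true := by decide +kernel

theorem t3X_18 : stepEq e3 wX t3X 18 = true := by decide +kernel

theorem t3X_26 : stepEq e3 wX t3X 26 = true := by decide +kernel

theorem t3Y_7 : stepEq e3 wY t3Y 7 = true := by decide +kernel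

theorem t3Y_15 : stepEq e3 wY t3Y 15 = true := by decide +kernel

theorem t3Y_23 : stepEq e3 wY t3Y 23 = true := by decide +kernel

theorem t5A_4 : stepEq e5 wA t5A 4 = true := by decide +kernel

theorem t5A_12 : stepEq e5 wA t5A 12 = true := by decide +kernel

theorem t5A_20 : stepEq e5 wA t5A 20 = true := by decide +kernel

theorem t5B_3 : stepEq e5 wB t5B 3 = true := by decide +kernel

theorem t5B_11 : stepEq e5 wB t5B 11 = true := by decide +kernel

theorem t5B_19 : stepEq e5 wB t5B 19 = true := by decide +kernel

theorem t13D_2 : stepEq e13 wD t13D 2 = true := by decide +kernel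

theorem t13D_10 : stepEq e13 wD t13D 10 = true := by decide +kernel


end Cfsg.Agent.F4Cover55Tits
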