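import Cfsg.Agent.F4Cover55Tits.Sylow

/-!
Multiplication tables of the Sylow subgroups, part 3.
-/

set_option autoImplicit false
set_option maxRecDepth 8000

namespace Cfsg.Agent.F4Cover55Tits

open ChevGroup.TitsMult

theorem t3X_3 : stepEq e3 wX t3X 3 = true := by decide +kernel

theorem t3X_11 : stepEq e3 wX t3X 11 = true := by decide +kernel

theorem t3X_19 : stepEq e3 wX t3X 19 = true := by decide +kernel

theorem t3Y_0 : stepEq e3 wY t3Y 0 = true := by decide +kernel

theorem t3Y_8 : stepEq e3 wY t3Y 8 = true := by decide +kernel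

theorem t3Y_16 : stepEq e3 wY t3Y 16 = true := by decide +kernel

theorem t3Y_24 : stepEq e3 wY t3Y 24 = true := by decide +kernel

theorem t5A_5 : stepEq e5 wA t5A 5 = true := by decide +kernel

theorem t5A_13 : stepEq e5 wA t5A 13 = true := by decide +kernel

theorem t5A_21 : stepEq e5 wA t5A 21 = true := by decide +kernel

theorem t5B_4 : stepEq e5 wB t5B 4 = true := by decide +kernel

theorem t5B_12 : stepEq e5 wB t5B 12 = true := by decide +kernel

theorem t5B_20 : stepEq e5 wB t5B 20 = true := by decide +kernel

theorem t13D_3 : stepEq e13 wD t13D 3 = true := by decide +kernel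

theorem t13D_11 : stepEq e13 wD t13D 11 = true := by decide +kernel


end Cfsg.Agent.F4Cover55Tits
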