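import Cfsg.Agent.F4Cover55Tits.Sylow

/-!
Multiplication tables of the Sylow subgroups, part 4.
-/

set_option autoImplicit false
set_option maxRecDepth 8000

namespace Cfsg.Agent.F4Cover55Tits

open ChevGroup.TitsMult

theorem t3X_4 : stepEq e3 wX t3X 4 = true := by decide +kernel

theorem t3X_12 : stepEq e3 wX t3X 12 = true := by decide +kernel

theorem t3X_20 : stepEq e3 wX t3X 20 = true := by decide +kernel

theorem t3Y_1 : stepEq e3 wY t3Y 1 = true := by decide +kernel

theorem t3Y_9 : stepEq e3 wY t3Y 9 = true := by decide +kernel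

theorem t3Y_17 : stepEq e3 wY t3Y 17 = true := by decide +kernel

theorem t3Y_25 : stepEq e3 wY t3Y 25 = true := by decide +kernel

theorem t5A_6 : stepEq e5 wA t5A 6 = true := by decide +kernel

theorem t5A_14 : stepEq e5 wA t5A 14 = true := by decide +kernel

theorem t5A_22 : stepEq e5 wA t5A 22 = true := by decide +kernel

theorem t5B_5 : stepEq e5 wB t5B 5 = true := by decide +kernel

theorem t5B_13 : stepEq e5 wB t5B 13 = true := by decide +kernel

theorem t5B_21 : stepEq e5 wB t5B 21 = true := by decide +kernel

theorem t13D_4 : stepEq e13 wD t13D 4 = true := by decide +kernel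

theorem t13D_12 : stepEq e13 wD t13D 12 = true := by decide +kernel


end Cfsg.Agent.F4Cover55Tits
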