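import Cfsg.Agent.F4Cover55Tits.Sylow

/-!
Multiplication tables of the Sylow subgroups, part 5.
-/

set_option autoImplicit false
set_option maxRecDepth 8000

namespace Cfsg.Agent.F4Cover55Tits

open ChevGroup.TitsMult

theorem t3X_5 : stepEq e3 wX t3X 5 = true := by decide +kernel

theorem t3X_13 : stepEq e3 wX t3X 13 = true := by decide +kernel

theorem t3X_21 : stepEq e3 wX t3X 21 = true := by decide +kernel

theorem t3Y_2 : stepEq e3 wY t3Y 2 = true := by decide +kernel

theorem t3Y_10 : stepEq e3 wY t3Y 10 = true := by decide +kernel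

theorem t3Y_18 : stepEq e3 wY t3Y 18 = true := by decide +kernel

theorem t3Y_26 : stepEq e3 wY t3Y 26 = true := by decide +kernel

theorem t5A_7 : stepEq e5 wA t5A 7 = true := by decide +kernel

theorem t5A_15 : stepEq e5 wA t5A 15 = true := by decide +kernel

theorem t5A_23 : stepEq e5 wA t5A 23 = true := by decide +kernel

theorem t5B_6 : stepEq e5 wB t5B 6 = true := by decide +kernel

theorem t5B_14 : stepEq e5 wB t5B 14 = true := by decide +kernel

theorem t5B_22 : stepEq e5 wB t5B 22 = true := by decide +kernel

theorem t13D_5 : stepEq e13 wD t13D 5 = true := by decide +kernel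


end Cfsg.Agent.F4Cover55Tits
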