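import Cfsg.Agent.F4Cover55Tits.Sylow

/-!
Multiplication tables of the Sylow subgroups, part 6.
-/

set_option autoImplicit false
set_option maxRecDepth 8000

namespace Cfsg.Agent.F4Cover55Tits

open ChevGroup.TitsMult

theorem t3X_6 : stepEq e3 wX t3X 6 = true := by decide +kernel

theorem t3X_14 : stepEq e3 wX t3X 14 = true := by decide +kernel

theorem t3X_22 : stepEq e3 wX t3X 22 = true := by decide +kernel

theorem t3Y_3 : stepEq e3 wY t3Y 3 = true := by decide +kernel

theorem t3Y_11 : stepEq e3 wY t3Y 11 = true := by decide +kernel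

theorem t3Y_19 : stepEq e3 wY t3Y 19 = true := by decide +kernel

theorem t5A_0 : stepEq e5 wA t5A 0 = true := by decide +kernel

theorem t5A_8 : stepEq e5 wA t5A 8 = true := by decide +kernel

theorem t5A_16 : stepEq e5 wA t5A 16 = true := by decide +kernel

theorem t5A_24 : stepEq e5 wA t5A 24 = true := by decide +kernel

theorem t5B_7 : stepEq e5 wB t5B 7 = true := by decide +kernel

theorem t5B_15 : stepEq e5 wB t5B 15 = true := by decide +kernel

theorem t5B_23 : stepEq e5 wB t5B 23 = true := by decide +kernel

theorem t13D_6 : stepEq e13 wD t13D 6 = true := by decide +kernel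


end Cfsg.Agent.F4Cover55Tits
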