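import Cfsg.Agent.F4Cover55Tits.Sylow

/-!
Multiplication tables of the Sylow subgroups, part 7.
-/

set_option autoImplicit false
set_option maxRecDepth 8000

namespace Cfsg.Agent.F4Cover55Tits

open ChevGroup.TitsMult

theorem t3X_7 : stepEq e3 wX t3X 7 = true := by decide +kernel

theorem t3X_15 : stepEq e3 wX t3X 15 = true := by decide +kernel

theorem t3X_23 : stepEq e3 wX t3X 23 = true := by decide +kernel

theorem t3Y_4 : stepEq e3 wY t3Y 4 = true := by decide +kernel

theorem t3Y_12 : stepEq e3 wY t3Y 12 = true := by decide +kernel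

theorem t3Y_20 : stepEq e3 wY t3Y 20 = true := by decide +kernel

theorem t5A_1 : stepEq e5 wA t5A 1 = true := by decide +kernel

theorem t5A_9 : stepEq e5 wA t5A 9 = true := by decide +kernel

theorem t5A_17 : stepEq e5 wA t5A 17 = true := by decide +kernel

theorem t5B_0 : stepEq e5 wB t5B 0 = true := by decide +kernel

theorem t5B_8 : stepEq e5 wB t5B 8 = true := by decide +kernel

theorem t5B_16 : stepEq e5 wB t5B 16 = true := by decide +kernel

theorem t5B_24 : stepEq e5 wB t5B 24 = true := by decide +kernel

theorem t13D_7 : stepEq e13 wD t13D 7 = true := by decide +kernel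


end Cfsg.Agent.F4Cover55Tits
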