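import Cfsg.Agent.F4Cover55Tits.Table0
import Cfsg.Agent.F4Cover55Tits.Table1
import Cfsg.Agent.F4Cover55Tits.Table2
import Cfsg.Agent.F4Cover55Tits.Table3
import Cfsg.Agent.F4Cover55Tits.Table4
import Cfsg.Agent.F4Cover55Tits.Table5
import Cfsg.Agent.F4Cover55Tits.Table6
import Cfsg.Agent.F4Cover55Tits.Table7

/-!
The Sylow subgroups of odd order.
-/

set_option autoImplicit false
set_option maxRecDepth 8000

namespace Cfsg.Agent.F4Cover55Tits

open Cfsg.Lie ChevCore Twisted Twisted.TypeF4 Twisted.Tits ChevGroup.TitsIdx ChevGroup.TitsMult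

theorem e3_sep : sepB e3 0 = true := by decide +kernel

theorem e3_step : ∀ g ∈ [(wX, t3X), (wY, t3Y)], ∀ i < 27, stepEq e3 g.1 g.2 i = true := by
  intro g hg i hi
  fin_cases hg <;> interval_cases i
  exacts [t3X_0,
    t3X_1,
    t3X_2,
    t3X_3,
    t3X_4,
    t3X_5,
    t3X_6,
    t3X_7,
    t3X_8,
    t3X_9,
    t3X_10,
    t3X_11,
    t3X_12,
    t3X_13,
    t3X_14,
    t3X_15,
    t3X_16,
    t3X_17,
    t3X_18,
    t3X_19,
    t3X_20,
    t3X_21,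
    t3X_22,
    t3X_23,
    t3X_24,
    t3X_25,
    t3X_26,
    t3Y_0,
    t3Y_1,
    t3Y_2,
    t3Y_3,
    t3Y_4,
    t3Y_5,
    t3Y_6,
    t3Y_7,
    t3Y_8,
    t3Y_9,
    t3Y_10,
    t3Y_11,
    t3Y_12,
    t3Y_13,
    t3Y_14,
    t3Y_15,
    t3Y_16,
    t3Y_17,
    t3Y_18,
    t3Y_19,
    t3Y_20,
    t3Y_21,
    t3Y_22,
    t3Y_23,
    t3Y_24,
    t3Y_25,
    t3Y_26]

theorem e5_sep : sepB e5 1 = true := by decide +kernel

theorem e5_step : ∀ g ∈ [(wA, t5A), (wB, t5B)], ∀ i < 25, stepEq e5 g.1 g.2 i = true := by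
  intro g hg i hi
  fin_cases hg <;> interval_cases i
  exacts [t5A_0,
    t5A_1,
    t5A_2,
    t5A_3,
    t5A_4,
    t5A_5,
    t5A_6,
    t5A_7,
    t5A_8,
    t5A_9,
    t5A_10,
    t5A_11,
    t5A_12,
    t5A_13,
    t5A_14,
    t5A_15,
    t5A_16,
    t5A_17,
    t5A_18,
    t5A_19,
    t5A_20,
    t5A_21,
    t5A_22,
    t5A_23,
    t5A_24,
    t5B_0,
    t5B_1,
    t5B_2,
    t5B_3,
    t5B_4,
    t5B_5,
    t5B_6,
    t5B_7,
    t5B_8,
    t5B_9,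
    t5B_10,
    t5B_11,
    t5B_12,
    t5B_13,
    t5B_14,
    t5B_15,
    t5B_16,
    t5B_17,
    t5B_18,
    t5B_19,
    t5B_20,
    t5B_21,
    t5B_22,
    t5B_23,
    t5B_24]

theorem e13_sep : sepB e13 0 = true := by decide +kernel

theorem e13_step : ∀ g ∈ [(wD, t13D)], ∀ i < 13, stepEq e13 g.1 g.2 i = true := by
  intro g hg i hi
  fin_cases hg <;> interval_cases i
  exacts [t13D_0,
    t13D_1,
    t13D_2,
    t13D_3,
    t13D_4,
    t13D_5,
    t13D_6,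
    t13D_7,
    t13D_8,
    t13D_9,
    t13D_10,
    t13D_11,
    t13D_12]


end Cfsg.Agent.F4Cover55Tits
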