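import Cfsg.Agent.F4Cover55Tits.Fixed
import Cfsg.Agent.F4Cover55Tits.SylowOk

/-!
The elements of odd order: each has order 3, 5 or 13 and is a product of two conjugates.
-/

set_option autoImplicit false
set_option maxRecDepth 4000

namespace Cfsg.Agent.F4Cover55Tits

open Cfsg.Lie ChevCore Twisted Twisted.TypeF4 Twisted.Tits ChevGroup.TitsIdx ChevGroup.TitsMult

local notation "KK" => Cfsg.Agent.ChevGroup.relsOfCommGood ChevCore.commGoodF4 (ZMod 2)
local notation "G₁" => genG MT KK (f4Words (ZMod 2) (2 ^ 0))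

attribute [local irreducible] TG pts ptsT

theorem wC_cube : (eqF (wW (List.replicate 3 wC).flatten) [] && eqF (wW (List.replicate 5 wA).flatten) [] &&
    eqF (wW (List.replicate 13 wD).flatten) []) = true := by decide +kernel

/-- A round of the closure of the tables. -/
def reachRound (gs : List (List ℕ × List ℕ)) (l : List ℕ) : List ℕ :=
  (l ++ l.flatMap fun i => gs.map fun g => g.2.getD i 0).dedup

/-- The indices reached from the first. -/
def reachL (gs : List (List ℕ × List ℕ)) : ℕ → List ℕ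
  | 0 => [0]
  | n + 1 => reachRound gs (reachL gs n)

theorem finSubgroup_of_words {gs : List (List ℕ × List ℕ)} {e : List (List (Fin MT.tab.n))} {c : ℕ}
    (h : sepB e c = true) (hg : ∀ g ∈ gs, ∀ i < e.length, stepEq e g.1 g.2 i = true) (n : ℕ)
    (hreach : ((List.range e.length).all fun i => decide (i ∈ reachL gs n)) = true) :
    ∃ H : Subgroup ↥TG, Nat.card H = e.length ∧ ∀ a ∈ H, ∃ i < e.length, (a : GG) = ev (e.getD i []) := by
  haveI : Finite ↥TG := finite_TG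
  simp only [sepB, Bool.and_eq_true, List.all_eq_true, decide_eq_true_eq, Nat.blt_eq] at h
  simp only [stepEq, Bool.and_eq_true, decide_eq_true_eq] at hg
  obtain ⟨⟨h0, hlt⟩, hnd⟩ := h
  have hlen : 0 < e.length := by cases e <;> simp_all
  have he0 : e.getD 0 [] = [] := by cases e <;> simp_all
  set E : ℕ → GG := fun i => ev (e.getD i []) with hE
  have hstep : ∀ g ∈ gs, ∀ i < e.length, g.2.getD i 0 < e.length ∧ E i * ev (wW g.1) = E (g.2.getD i 0) :=
    fun g hg' i hi => ⟨(hg g hg' i hi).1, by rw [hE, ← ev_append, ev_eqF (hg g hg' i hi).2]⟩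
  have hmemR : ∀ m, ∀ i ∈ reachL gs m, i < e.length ∧ E i ∈ TG := by
    intro m
    induction m with
    | zero =>
      intro i hi
      rw [reachL, List.mem_singleton] at hi
      subst hi
      exact ⟨hlen, by simp only [hE, he0]; exact one_mem _⟩
    | succ m ih =>
      intro i hi
      rw [reachL, reachRound, List.mem_dedup, List.mem_append, List.mem_flatMap] at hi
      rcases hi with hi | ⟨j, hj, hi⟩
      · exact ih i hi
      · obtain ⟨g, hg', rfl⟩ := List.mem_map.1 hi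
        obtain ⟨hj1, hj2⟩ := ih j hj
        obtain ⟨h1, h2⟩ := hstep g hg' j hj1
        exact ⟨h1, h2 ▸ mul_mem hj2 (wW_mem _)⟩
  simp only [List.all_eq_true, List.mem_range, decide_eq_true_eq] at hreach
  have hmem : ∀ i < e.length, E i ∈ TG := fun i hi => (hmemR n i (hreach i hi)).2
  set gset : Set ↥TG := {y | ∃ g ∈ gs, (⟨ev (wW g.1), wW_mem _⟩ : ↥TG) = y}
  set H := Subgroup.closure gset with hH
  have hsub : ∀ a ∈ H, ∃ i < e.length, (a : GG) = E i := by
    intro a ha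
    rw [hH, ← Subgroup.mem_toSubmonoid, Subgroup.closure_toSubmonoid_of_finite] at ha
    induction ha using Submonoid.closure_induction_right with
    | one => exact ⟨0, hlen, by simp only [hE, he0]; rfl⟩
    | mul_right x _ y hy ih =>
      obtain ⟨g, hg', rfl⟩ := hy
      obtain ⟨i, hi, e'⟩ := ih
      exact ⟨_, (hstep g hg' i hi).1, by rw [Subgroup.coe_mul, e']; exact (hstep g hg' i hi).2⟩
  have hinH : ∀ m, ∀ i ∈ reachL gs m, ∃ a ∈ H, (a : GG) = E i := by
    intro m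
    induction m with
    | zero =>
      intro i hi
      rw [reachL, List.mem_singleton] at hi
      subst hi
      exact ⟨1, one_mem _, by simp only [hE, he0]; rfl⟩
    | succ m ih =>
      intro i hi
      rw [reachL, reachRound, List.mem_dedup, List.mem_append, List.mem_flatMap] at hi
      rcases hi with hi | ⟨j, hj, hi⟩
      · exact ih i hi
      · obtain ⟨g, hg', rfl⟩ := List.mem_map.1 hi
        obtain ⟨a, ha, e'⟩ := ih j hj
        refine ⟨a * ⟨ev (wW g.1), wW_mem _⟩, mul_mem ha (Subgroup.subset_closure ⟨g, hg', rfl⟩), ?_⟩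
        rw [Subgroup.coe_mul, e', (hstep g hg' j (hmemR m j hj).1).2]
  have hinj : ∀ i < e.length, ∀ j < e.length, E i = E j → i = j := by
    intro i hi j hj hij
    have hlt' : ∀ k < e.length, appW ((e.getD k []).map Fin.val) (2 ^ c) < 2 ^ 52 := fun k hk => by
      rw [List.getD_eq_getElem _ _ hk]; exact hlt _ (List.getElem_mem hk)
    have hv := congrArg (fun g => act g (toVec (2 ^ c))) hij
    simp only [hE, act_word] at hv
    have hv' := toVec_inj (hlt' i hi) (hlt' j hj) hv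
    rw [List.getD_eq_getElem _ _ hi, List.getD_eq_getElem _ _ hj] at hv'
    exact (hnd.getElem_inj_iff (hi := by rwa [List.length_map]) (hj := by rwa [List.length_map])).1
      (by simpa using hv')
  choose pick hpick hpick' using fun i : Fin e.length => hinH n i.1 (hreach i.1 i.2)
  refine ⟨H, ?_, hsub⟩
  rw [← Nat.card_fin e.length]
  refine (Nat.card_eq_of_bijective (fun i : Fin e.length => (⟨pick i, hpick i⟩ : ↥H)) ⟨?_, ?_⟩).symm
  · intro i j hij
    have h1 : pick i = pick j := congrArg Subtype.val hij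
    exact Fin.ext (hinj _ i.2 _ j.2 (by rw [← hpick', ← hpick', h1]))
  · rintro ⟨a, ha⟩
    obtain ⟨i, hi, e'⟩ := hsub a ha
    exact ⟨⟨i, hi⟩, Subtype.ext (Subtype.ext (by rw [hpick', e']))⟩

/-- Elements of a prime power order are conjugate into a subgroup of full order. -/
theorem conj_into {G : Type*} [Group G] [Finite G] {p k : ℕ} [Fact p.Prime] (H : Subgroup G)
    (hH : Nat.card H = p ^ k) {n : ℕ} (hn : Nat.card G = n) (hidx : ¬ p ∣ n / p ^ k) {a : G}
    (ha : a ^ p ^ k = 1) : ∃ t : G, t * a * t⁻¹ ∈ H := by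
  have hi : ¬ p ∣ H.index := by
    have h := H.card_mul_index
    rw [hH, hn] at h
    rwa [← h, Nat.mul_div_cancel_left _ (pow_pos (Fact.out : p.Prime).pos _)] at hidx
  have hz : IsPGroup p ↥(Subgroup.zpowers a) := by
    rintro ⟨x, hx⟩
    obtain ⟨i, rfl⟩ := Subgroup.mem_zpowers_iff.1 hx
    refine ⟨k, Subtype.ext ?_⟩
    show (a ^ i) ^ p ^ k = 1
    rw [← zpow_natCast, ← zpow_mul, mul_comm, zpow_mul, zpow_natCast, ha, one_zpow]
  obtain ⟨S, hS⟩ := hz.exists_le_sylow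
  obtain ⟨g, hg⟩ := MulAction.exists_smul_eq G S ((IsPGroup.of_card hH).toSylow hi)
  refine ⟨g, ?_⟩
  have h2 : MulAut.conj g a ∈ ((g • S : Sylow p G) : Subgroup G) :=
    Subgroup.mem_map_of_mem (MulAut.conj g : G ≃* G).toMonoidHom (hS (Subgroup.mem_zpowers a))
  rw [hg] at h2
  simpa using h2

/-- A map of prime period without fixed points on a set divides its size. -/
theorem dvd_of_free {α : Type*} (f : α → α) (hinj : Function.Injective f) {p : ℕ} [Fact p.Prime]
    (S : Finset α) (hk : ∀ v ∈ S, f v ∈ S) (hper : ∀ v ∈ S, f^[p] v = v) (hfree : ∀ v ∈ S, f v ≠ v) :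
    p ∣ S.card := by
  classical
  by_contra hd
  let g : ↥S → ↥S := fun v => ⟨f v, hk v v.2⟩
  have hb : Function.Bijective g := (Finite.injective_iff_bijective).1 fun v w e =>
    Subtype.ext (hinj (congrArg Subtype.val e))
  let σ : Equiv.Perm ↥S := Equiv.ofBijective g hb
  have hpow : ∀ n : ℕ, ∀ v, ((σ ^ n) v).1 = f^[n] v.1 := by
    intro n
    induction n with
    | zero => intro v; rfl
    | succ n ih =>
      intro v
      rw [pow_succ', Equiv.Perm.mul_apply, Function.iterate_succ_apply']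
      exact congrArg f (ih v)
  have hσ : σ ^ p ^ 1 = 1 := Equiv.ext fun v => Subtype.ext (by
    rw [pow_one, hpow, hper v.1 v.2]; rfl)
  obtain ⟨v, hv⟩ := Equiv.Perm.exists_fixed_point_of_prime (by rwa [Fintype.card_coe]) hσ
  exact hfree v.1 v.2 (congrArg Subtype.val hv)

/-- A nontrivial element of order dividing 8775 has prime power order or gives a commuting pair. -/
theorem order_cases {G : Type*} [Group G] {a : G} (hn : a ^ 8775 = 1) :
    a ^ 27 = 1 ∨ a ^ 25 = 1 ∨ a ^ 13 = 1 ∨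
      (∃ x y : G, Commute x y ∧ x ^ 27 = 1 ∧ x ≠ 1 ∧ y ^ 25 = 1 ∧ y ≠ 1) ∨
      (∃ y z : G, Commute y z ∧ y ^ 25 = 1 ∧ y ≠ 1 ∧ z ^ 13 = 1 ∧ z ≠ 1) ∨
      (∃ x z : G, Commute x z ∧ x ^ 27 = 1 ∧ x ≠ 1 ∧ z ^ 13 = 1 ∧ z ≠ 1) := by
  have hc : ∀ m n : ℕ, Commute (a ^ m) (a ^ n) := fun m n => (Commute.refl a).pow_pow m n
  have hp : ∀ m n : ℕ, m * n = 8775 → (a ^ m) ^ n = 1 := fun m n e => by rw [← pow_mul, e, hn]
  have hg : ∀ m n : ℕ, a ^ m = 1 → a ^ n = 1 → a ^ Nat.gcd m n = 1 := fun m n hm hn' =>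
    orderOf_dvd_iff_pow_eq_one.1 (Nat.dvd_gcd (orderOf_dvd_iff_pow_eq_one.2 hm) (orderOf_dvd_iff_pow_eq_one.2 hn'))
  by_cases h3 : a ^ 325 = 1
  · by_cases h5 : a ^ 351 = 1
    · exact Or.inr (Or.inr (Or.inl (by simpa using hg 325 351 h3 h5)))
    · by_cases h13 : a ^ 675 = 1
      · exact Or.inr (Or.inl (by simpa using hg 325 675 h3 h13))
      · exact Or.inr (Or.inr (Or.inr (Or.inr (Or.inl ⟨_, _, hc 351 675, hp _ _ rfl, h5, hp _ _ rfl, h13⟩))))
  · by_cases h5 : a ^ 351 = 1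
    · by_cases h13 : a ^ 675 = 1
      · exact Or.inl (by simpa using hg 351 675 h5 h13)
      · exact Or.inr (Or.inr (Or.inr (Or.inr (Or.inr ⟨_, _, hc 325 675, hp _ _ rfl, h3, hp _ _ rfl, h13⟩))))
    · exact Or.inr (Or.inr (Or.inr (Or.inl ⟨_, _, hc 325 351, hp _ _ rfl, h3, hp _ _ rfl, h5⟩)))

/-- The representative of order three. -/
noncomputable def c3 : ↥TG := ⟨ev (wW wC), wW_mem _⟩

/-- The representative of order five. -/
noncomputable def c5 : ↥TG := ⟨ev (wW wA), wW_mem _⟩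

/-- The representative of order thirteen. -/
noncomputable def c13 : ↥TG := ⟨ev (wW wD), wW_mem _⟩

theorem c13_pow (i : ℕ) : ((c13 ^ i : ↥TG) : GG) = ev (wW (List.replicate i wD).flatten) := by
  have h := el_pow wD i
  exact (congrArg Subtype.val h).symm

theorem powers_one : c3 ^ 3 = 1 ∧ c5 ^ 5 = 1 ∧ c13 ^ 13 = 1 := by
  have h := wC_cube
  simp only [Bool.and_eq_true] at h
  exact ⟨(el_pow wC 3).symm.trans (el_one h.1.1), (el_pow wA 5).symm.trans (el_one h.1.2),
    (el_pow wD 13).symm.trans (el_one h.2)⟩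

theorem conj_of_list {conj : List (List ℕ)} {w : List ℕ} {k : ℕ} (hk : k ≠ 0)
    (hklt : k < ([] :: conj.map fun a => cw a (wW w)).length) {b : ↥TG}
    (hb : (b : GG) = ev (([] :: conj.map fun a => cw a (wW w)).getD k [])) :
    ∃ t : ↥TG, b = t * ⟨ev (wW w), wW_mem _⟩ * t⁻¹ := by
  obtain ⟨j, rfl⟩ : ∃ j, k = j + 1 := ⟨k - 1, by omega⟩
  have hj : j < (conj.map fun a => cw a (wW w)).length := by simpa using hklt
  rw [List.getD_cons_succ, List.getD_eq_getElem _ _ hj, List.getElem_map, ev_cw] at hb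
  exact ⟨⟨_, wW_mem _⟩, Subtype.ext hb⟩

theorem class3 {a : ↥TG} (ha : a ^ 27 = 1) (ha1 : a ≠ 1) : ∃ t : ↥TG, a = t * c3 * t⁻¹ := by
  haveI : Fact (Nat.Prime 3) := ⟨by norm_num⟩
  obtain ⟨H, hcard, hH⟩ := finSubgroup_of_words e3_sep (fun g hg i hi => e3_step g hg i (hi.trans_eq (by decide +kernel))) 8 (by decide +kernel)
  obtain ⟨t, ht⟩ := conj_into (p := 3) (k := 3) H (hcard.trans (by decide +kernel)) (hn := card_TG) (by norm_num) (a := a) ha
  obtain ⟨i, hi, e⟩ := hH _ ht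
  by_cases h0 : i = 0
  · exfalso
    have h1 : t * a * t⁻¹ = 1 := Subtype.ext (by rw [e, h0]; rfl)
    exact ha1 (conj_eq_one_iff.1 h1)
  obtain ⟨s, hs⟩ := conj_of_list (conj := conj3) (w := wC) h0 hi e
  exact ⟨t⁻¹ * s, by rw [show a = t⁻¹ * (t * a * t⁻¹) * t by group, hs]; unfold c3; group⟩

theorem class5 {a : ↥TG} (ha : a ^ 25 = 1) (ha1 : a ≠ 1) : ∃ t : ↥TG, a = t * c5 * t⁻¹ := by
  haveI : Fact (Nat.Prime 5) := ⟨by norm_num⟩
  obtain ⟨H, hcard, hH⟩ := finSubgroup_of_words e5_sep (fun g hg i hi => e5_step g hg i (hi.trans_eq (by decide +kernel))) 9 (by decide +kernel)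
  obtain ⟨t, ht⟩ := conj_into (p := 5) (k := 2) H (hcard.trans (by decide +kernel)) (hn := card_TG) (by norm_num) (a := a) ha
  obtain ⟨i, hi, e⟩ := hH _ ht
  by_cases h0 : i = 0
  · exfalso
    have h1 : t * a * t⁻¹ = 1 := Subtype.ext (by rw [e, h0]; rfl)
    exact ha1 (conj_eq_one_iff.1 h1)
  obtain ⟨s, hs⟩ := conj_of_list (conj := conj5) (w := wA) h0 hi e
  exact ⟨t⁻¹ * s, by rw [show a = t⁻¹ * (t * a * t⁻¹) * t by group, hs]; unfold c5; group⟩

theorem class13 {a : ↥TG} (ha : a ^ 13 = 1) (ha1 : a ≠ 1) :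
    ∃ t : ↥TG, ∃ i, i ≠ 0 ∧ i < 13 ∧ a = t * c13 ^ i * t⁻¹ := by
  haveI : Fact (Nat.Prime 13) := ⟨by norm_num⟩
  obtain ⟨H, hcard, hH⟩ := finSubgroup_of_words e13_sep (fun g hg i hi => e13_step g hg i (hi.trans_eq (by decide +kernel))) 13 (by decide +kernel)
  obtain ⟨t, ht⟩ := conj_into (p := 13) (k := 1) H (hcard.trans (by decide +kernel)) (hn := card_TG) (by norm_num) (a := a) (by simpa using ha)
  obtain ⟨i, hi, e⟩ := hH _ ht
  have hi' : i < 13 := by simpa [e13] using hi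
  have e' : t * a * t⁻¹ = c13 ^ i := Subtype.ext (by
    rw [e, c13_pow, List.getD_eq_getElem _ _ hi]
    simp [e13])
  by_cases h0 : i = 0
  · exfalso
    rw [h0, pow_zero] at e'
    exact ha1 (conj_eq_one_iff.1 e')
  exact ⟨t⁻¹, i, h0, hi', by rw [← e']; group⟩

theorem cov_cls {a c : ↥TG} (h : ∃ t : ↥TG, a = t * c * t⁻¹) (hc : Cov (c : GG)) : Cov (a : GG) := by
  obtain ⟨t, rfl⟩ := h
  exact cov_conj (mem_TG.1 t.2).1 hc

theorem cov13 {i : ℕ} (h0 : i ≠ 0) (hi : i < 13) : Cov ((c13 ^ i : ↥TG) : GG) := by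
  obtain ⟨j, rfl⟩ : ∃ j, i = j + 1 := ⟨i - 1, by omega⟩
  have h := wit13_ok
  simp only [List.all_eq_true, List.mem_range] at h
  have hlen : j + 1 < e13.length := by simpa [e13] using hi
  have hw := cov_of_wit (h j (by omega))
  rw [List.getD_eq_getElem _ _ hlen] at hw
  rw [c13_pow]
  simpa [e13] using hw

/-- Fixed-point-free on the set. -/
def FPF (g : ↥TG) : Prop := ∀ v ∈ pts, act (g : GG) v ≠ v

theorem fpf_conj {g : ↥TG} (h : FPF g) (t : ↥TG) : FPF (t * g * t⁻¹) := by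
  intro v hv he
  refine h (act ((t⁻¹ : ↥TG) : GG) v) (keeps_TG (t⁻¹).2 v hv) ?_
  apply act_inj (t : GG)
  rw [← act_mul, ← act_mul, ← act_mul]
  have : ((t * g * t⁻¹ : ↥TG) : GG) = (t : GG) * g * ((t⁻¹ : ↥TG) : GG) := rfl
  rw [this] at he
  rw [mul_assoc] at he ⊢
  rw [he, show (t : GG) * ((t⁻¹ : ↥TG) : GG) = 1 from by simp, act_one]

theorem act_pow_fix {g : GG} {v : V} (h : act g v = v) : ∀ n : ℕ, act (g ^ n) v = v
  | 0 => by rw [pow_zero, act_one]
  | n + 1 => by rw [pow_succ, act_mul, h, act_pow_fix h n]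

theorem fpf3 : FPF c3 := fun v hv he => by
  have h : v ∈ fixS (ev (wW wC)) := Finset.mem_filter.2 ⟨hv, he⟩
  rw [Finset.card_eq_zero.1 (fixS_card.trans fix3)] at h
  cases h

theorem fpf13 {i : ℕ} (h0 : i ≠ 0) (hi : i < 13) : FPF (c13 ^ i) := fun v hv he => by
  have hd : ∀ v ∈ pts, act (c13 : GG) v ≠ v := fun v hv he => by
    have h : v ∈ fixS (ev (wW wD)) := Finset.mem_filter.2 ⟨hv, he⟩
    rw [Finset.card_eq_zero.1 (fixS_card.trans fix13)] at h
    cases h
  have key : ∀ i < 13, i ≠ 0 → ∃ j < 13, i * j % 13 = 1 := by decide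
  obtain ⟨j, -, hj⟩ := key i hi h0
  refine hd v hv ?_
  have h2 := act_pow_fix he j
  have h3 : ((c13 ^ i : ↥TG) : GG) ^ j = (c13 : GG) := by
    rw [← Subgroup.coe_pow, ← pow_mul, pow_eq_pow_mod _ powers_one.2.2, hj, pow_one]
  rwa [h3] at h2

/-- A fixed-point-free element commuting with the element that defines a set divides its size. -/
theorem dvd_card {p : ℕ} [Fact p.Prime] {g : ↥TG} (hg : g ^ p = 1) (hf : FPF g) (S : Finset V)
    (hS : S ⊆ pts) (hk : ∀ v ∈ S, act (g : GG) v ∈ S) : p ∣ S.card := by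
  refine dvd_of_free (act (g : GG)) (act_inj _) S hk (fun v _ => ?_) fun v hv => hf v (hS hv)
  have hit : ∀ n : ℕ, (act (g : GG))^[n] v = act ((g : GG) ^ n) v := by
    intro n
    induction n with
    | zero => rw [pow_zero, act_one]; rfl
    | succ n ih => rw [Function.iterate_succ_apply', ih, pow_succ', act_mul]
  rw [hit, ← Subgroup.coe_pow, hg, Subgroup.coe_one, act_one]

theorem fix_image (t b : ↥TG) : (fixS ((t * b * t⁻¹ : ↥TG) : GG)).card = (fixS (b : GG)).card := by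
  classical
  refine (Finset.card_bij (fun v _ => act (t : GG) v) ?_ (fun v _ w _ e => act_inj _ e) ?_).symm
  · intro v hv
    obtain ⟨hp, he⟩ := Finset.mem_filter.1 hv
    refine Finset.mem_filter.2 ⟨keeps_TG t.2 v hp, ?_⟩
    rw [← act_mul, show ((t * b * t⁻¹ : ↥TG) : GG) * t = (t : GG) * b by simp [mul_assoc], act_mul, he]
  · intro w hw
    obtain ⟨hp, he⟩ := Finset.mem_filter.1 hw
    refine ⟨act ((t⁻¹ : ↥TG) : GG) w, Finset.mem_filter.2 ⟨keeps_TG (t⁻¹).2 w hp, ?_⟩, ?_⟩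
    · apply act_inj (t : GG)
      rw [← act_mul, ← act_mul, ← act_mul, ← Subgroup.coe_mul, ← Subgroup.coe_mul, he, ← Subgroup.coe_mul,
        mul_inv_cancel, Subgroup.coe_one, act_one]
    · rw [← act_mul, show (t : GG) * ((t⁻¹ : ↥TG) : GG) = 1 by simp, act_one]

theorem fix_stable {a b : ↥TG} (h : Commute a b) : ∀ v ∈ fixS (b : GG), act (a : GG) v ∈ fixS (b : GG) := by
  intro v hv
  obtain ⟨hp, he⟩ := Finset.mem_filter.1 hv
  refine Finset.mem_filter.2 ⟨keeps_TG a.2 v hp, ?_⟩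
  rw [← act_mul, ← Subgroup.coe_mul, ← h.eq, Subgroup.coe_mul, act_mul, he]

theorem sum_stable {a b : ↥TG} (h : Commute a b) : ∀ v ∈ sumS (b : GG), act (a : GG) v ∈ sumS (b : GG) := by
  intro v hv
  obtain ⟨hp, he⟩ := Finset.mem_filter.1 hv
  refine Finset.mem_filter.2 ⟨keeps_TG a.2 v hp, ?_⟩
  rw [← act_mul, ← Subgroup.coe_mul, ← h.eq, Subgroup.coe_mul, act_mul, ← act_add]
  exact keeps_TG a.2 _ he

theorem no_five_mix {p : ℕ} [Fact p.Prime] (hp : ¬ p ∣ 5) {a b : ↥TG} (hb : b ^ 25 = 1) (hb1 : b ≠ 1)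
    (ha : a ^ p = 1) (hf : FPF a) (h : Commute a b) : False := by
  obtain ⟨t, rfl⟩ := class5 hb hb1
  have hd := dvd_card ha hf (fixS ((t * c5 * t⁻¹ : ↥TG) : GG)) (Finset.filter_subset _ _) (fix_stable h)
  rw [fix_image] at hd
  exact hp ((fixS_card.trans fix5) ▸ hd)

theorem no_three_thirteen {a d : ↥TG} (ha : a ^ 27 = 1) (ha1 : a ≠ 1) (hd : d ^ 13 = 1) (hd1 : d ≠ 1)
    (h : Commute a d) : False := by
  haveI : Fact (Nat.Prime 13) := ⟨by norm_num⟩
  obtain ⟨t, rfl⟩ := class3 ha ha1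
  have h' : Commute c3 (t⁻¹ * d * t) := by
    have := h.map (MulAut.conj t⁻¹).toMonoidHom
    simpa [mul_assoc] using this
  set d' := t⁻¹ * d * t
  have hd' : d' ^ 13 = 1 := by
    rw [show d' = t⁻¹ * d * t⁻¹⁻¹ by simp [d'], conj_pow, hd, mul_one, mul_inv_cancel]
  have hd1' : d' ≠ 1 := fun e => hd1 (by rw [show d = t * d' * t⁻¹ by simp [d', mul_assoc], e]; simp)
  have hf : FPF d' := by
    obtain ⟨s, i, h0, hi, e⟩ := class13 hd' hd1'
    rw [e]
    exact fpf_conj (fpf13 h0 hi) s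
  have hdv := dvd_card hd' hf (sumS (c3 : GG)) (Finset.filter_subset _ _) (sum_stable h'.symm)
  rw [show (sumS (c3 : GG)).card = 27 from sumS_card.trans sum3] at hdv
  norm_num at hdv

theorem no_three_five {x y : ↥TG} (hx : x ^ 27 = 1) (hx1 : x ≠ 1) (hy : y ^ 25 = 1) (hy1 : y ≠ 1)
    (h : Commute x y) : False := by
  haveI : Fact (Nat.Prime 3) := ⟨by norm_num⟩
  obtain ⟨t, ht⟩ := class3 hx hx1
  refine no_five_mix (p := 3) (by norm_num) hy hy1 ?_ ?_ h
  · rw [ht, conj_pow, powers_one.1, mul_one, mul_inv_cancel]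
  · rw [ht]; exact fpf_conj fpf3 t

theorem no_five_thirteen {y z : ↥TG} (hy : y ^ 25 = 1) (hy1 : y ≠ 1) (hz : z ^ 13 = 1) (hz1 : z ≠ 1)
    (h : Commute y z) : False := by
  haveI : Fact (Nat.Prime 13) := ⟨by norm_num⟩
  obtain ⟨t, i, h0, hi, ht⟩ := class13 hz hz1
  exact no_five_mix (p := 13) (by norm_num) hy hy1 hz (ht ▸ fpf_conj (fpf13 h0 hi) t) h.symm

/-- The elements of odd order. -/
theorem cov_odd {a : ↥TG} (h1 : a ≠ 1) (ho : Odd (orderOf a)) : Cov (a : GG) := by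
  haveI : Finite ↥TG := finite_TG
  have hdvd : orderOf a ∣ 8775 := by
    have h := orderOf_dvd_natCard a
    rw [card_TG] at h
    exact ((Nat.coprime_two_right.2 ho).pow_right 11).dvd_of_dvd_mul_left h
  rcases order_cases (orderOf_dvd_iff_pow_eq_one.1 hdvd) with
    e | e | e | ⟨x, y, h, hx, hx1, hy, hy1⟩ | ⟨y, z, h, hy, hy1, hz, hz1⟩ | ⟨x, z, h, hx, hx1, hz, hz1⟩
  · exact cov_cls (class3 e h1) (cov_of_wit wit3_ok)
  · exact cov_cls (class5 e h1) (cov_of_wit wit5_ok)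
  · obtain ⟨t, i, h0, hi, ht⟩ := class13 e h1
    exact cov_cls ⟨t, ht⟩ (cov13 h0 hi)
  · exact (no_three_five hx hx1 hy hy1 h).elim
  · exact (no_five_thirteen hy hy1 hz hz1 h).elim
  · exact (no_three_thirteen hx hx1 hz hz1 h).elim

end Cfsg.Agent.F4Cover55Tits
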