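import Cfsg.Agent.F4Cover55Tits.Even
import Cfsg.Agent.F4Cover55Tits.Odd

/-!
The Tits group is the square of the class of its elements of order five, apart from the identity.
-/

set_option autoImplicit false
set_option maxRecDepth 4000
set_option maxHeartbeats 400000

namespace Cfsg.Agent.F4Cover55Tits

open Cfsg.Lie ChevCore Twisted Twisted.TypeF4 Twisted.Tits ChevGroup.TitsIdx ChevGroup.TitsMult

local notation "KK" => Cfsg.Agent.ChevGroup.relsOfCommGood ChevCore.commGoodF4 (ZMod 2)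
local notation "G₁" => genG MT KK (f4Words (ZMod 2) (2 ^ 0))

attribute [local irreducible] TG

theorem cov_all {a : ↥TG} (h1 : a ≠ 1) : Cov (a : GG) := by
  haveI : Finite ↥TG := finite_TG
  rcases Nat.even_or_odd (orderOf a) with h | h
  · obtain ⟨k, m, hm, e⟩ := Nat.exists_eq_two_pow_mul_odd (orderOf_pos a).ne'
    have hk : k ≠ 0 := by
      rintro rfl
      rw [e, pow_zero, one_mul] at h
      exact (Nat.not_even_iff_odd.2 hm) h
    have hb1 : a ^ m ≠ 1 := fun hb => by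
      have hd := orderOf_dvd_iff_pow_eq_one.2 hb
      rw [e] at hd
      have hle := Nat.le_of_dvd hm.pos hd
      have : 1 < 2 ^ k := Nat.one_lt_two_pow hk
      have hm0 := hm.pos
      nlinarith
    have hj : (a ^ m) ^ 2 ^ k = 1 := by rw [← pow_mul, mul_comm, ← e, pow_orderOf_eq_one]
    refine cov_of_commute (a := ((a ^ m : ↥TG) : GG)) (j := k) a.2 (mem_TG.1 (a ^ m).2).1 ?_ ?_ ?_ ?_
    · exact fun e' => hb1 (Subtype.ext e')
    · rw [← Subgroup.coe_pow, hj, Subgroup.coe_one]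
    · rw [← Subgroup.coe_mul, ← Subgroup.coe_mul, ← pow_succ, ← pow_succ']
    · exact fun e' => h1 (Subtype.ext e')
  · exact cov_odd h1 h

theorem tits_TG : ∃ x : ↥TG, Odd (orderOf x) ∧
    ∀ g : ↥TG, g ≠ 1 → ∃ u v : ↥TG, g = (u * x * u⁻¹) * (v * x * v⁻¹) := by
  refine ⟨c5, ?_, fun g hg => ?_⟩
  · exact Odd.of_dvd_nat (by decide : Odd 5) (orderOf_dvd_of_pow_eq_one powers_one.2.1)
  · obtain ⟨y, z, ⟨t, ht, rfl⟩, ⟨s, hs, rfl⟩, e⟩ := cov_all hg
    exact ⟨⟨t, ht⟩, ⟨s, hs⟩, Subtype.ext e⟩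

/-- The derived group of the twisted group over two elements. -/
theorem exists_equiv : Nonempty (↥TG ≃* TitsGroup) := by
  let e : ↥G₁ ≃* ↥(twistedF4 (ZMod 2) 1) := genEquiv MT KK (f4Words (ZMod 2) (2 ^ 0))
  have hmap : (commutator ↥G₁).map (e : ↥G₁ →* ↥(twistedF4 (ZMod 2) 1)) =
      commutator ↥(twistedF4 (ZMod 2) 1) := by
    rw [commutator_def, Subgroup.map_commutator, Subgroup.map_top_of_surjective _ e.surjective]
    rfl
  exact ⟨(MulEquiv.subgroupCongr TG_eq).trans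
    (((commutator ↥G₁).equivMapOfInjective _ (G₁).subtype_injective).symm.trans
      (((commutator ↥G₁).equivMapOfInjective (e : ↥G₁ →* ↥(twistedF4 (ZMod 2) 1)) e.injective).trans
        (MulEquiv.subgroupCongr hmap)))⟩

/-- A group isomorphic to the Tits group is covered by the square of one class of odd order. -/
theorem tits {M : Type*} [Group M] [Finite M] (h : Cfsg.Lie.IsoTits M) :
    ∃ x : M, Odd (orderOf x) ∧ ∀ g : M, g ≠ 1 → ∃ u v : M, g = (u * x * u⁻¹) * (v * x * v⁻¹) := by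
  obtain ⟨f⟩ := h
  obtain ⟨e⟩ := exists_equiv
  obtain ⟨x, hx, hall⟩ := tits_TG
  set φ := e.trans f.symm
  refine ⟨φ x, by rwa [MulEquiv.orderOf_eq], fun g hg => ?_⟩
  obtain ⟨u, v, huv⟩ := hall (φ.symm g) fun h1 => hg (by simpa using congrArg φ h1)
  exact ⟨φ u, φ v, by rw [← φ.apply_symm_apply g, huv]; simp only [map_mul, map_inv]⟩

end Cfsg.Agent.F4Cover55Tits
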