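import Cfsg.Agent.F4Cover55Tits.Words

/-!
Soundness of the moves: collection in the unipotent part and conjugation.
-/

set_option autoImplicit false
set_option maxRecDepth 4000
set_option maxHeartbeats 100000

namespace Cfsg.Agent.F4Cover55Tits

open Cfsg.Lie ChevCore Twisted Twisted.TypeF4 Twisted.Tits ChevGroup.TitsIdx ChevGroup.TitsMult

local notation "KK" => Cfsg.Agent.ChevGroup.relsOfCommGood ChevCore.commGoodF4 (ZMod 2)
local notation "G₁" => genG MT KK (f4Words (ZMod 2) (2 ^ 0))
local notation "DD" => Gens.data (gens fr card_two)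

/-- The relations of a presentation. -/
def Rel {G : Type*} [Group G] (D : ChevGroup.PcLift.Tbl) (l : ℕ → G) : Prop :=
  ∀ i < D.n, ∀ j ≤ i, l i * l j = ChevGroup.PcLift.evW l (D.R i j)

theorem uG_rel : Rel tbl uG := fun i hi j hj => by
  have h := congrArg Subtype.val (rel_TG i hi j hj)
  rw [coe_evW, ← evW_uG] at h
  exact h

theorem step_sound {G : Type*} [Group G] {D : ChevGroup.PcLift.Tbl} {l : ℕ → G}
    (hrel : Rel D l) :
    ∀ {w : List ℕ} {q : List ℕ × ℕ}, D.step w = some q → ChevGroup.PcLift.evW l w = ChevGroup.PcLift.evW l q.1 := by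
  intro w
  induction w with
  | nil => simp [ChevGroup.PcLift.Tbl.step]
  | cons i w ih =>
    cases w with
    | nil => simp [ChevGroup.PcLift.Tbl.step]
    | cons j r =>
      intro q hq
      rw [ChevGroup.PcLift.Tbl.step] at hq
      split_ifs at hq with hc
      · simp only [decide_eq_true_eq] at hc
        obtain rfl := Option.some.inj hq
        rw [ChevGroup.PcLift.evW_cons, ChevGroup.PcLift.evW_cons, ChevGroup.PcLift.evW_append, ← mul_assoc, hrel i hc.2 j hc.1]
      · obtain ⟨p, hp, rfl⟩ := Option.map_eq_some_iff.1 hq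
        rw [ChevGroup.PcLift.evW_cons, ih hp, ChevGroup.PcLift.evW_cons]

theorem collect_sound {G : Type*} [Group G] {D : ChevGroup.PcLift.Tbl} {l : ℕ → G}
    (hrel : Rel D l) :
    ∀ f w m, ChevGroup.PcLift.evW l (D.collect f (w, m)).1 = ChevGroup.PcLift.evW l w := by
  intro f
  induction f with
  | zero => intro w m; rfl
  | succ f ih =>
    intro w m
    rw [ChevGroup.PcLift.Tbl.collect]
    cases hs : D.step w with
    | none => rfl
    | some q => simp only; rw [ih, step_sound hrel hs]

theorem tbl_n : tbl.n = 11 := rfl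

attribute [local irreducible] ChevGroup.PcLift.Tbl.collect ChevGroup.TitsMult.tbl uW ev

theorem ev_col (w : List ℕ) : ev (uW (col w)) = ev (uW w) := by
  have h := fun f => collect_sound (D := tbl) (l := uG) uG_rel f w 0
  rw [col, ← evW_uG, ← evW_uG, h]

attribute [local irreducible] col

theorem ev_of_col {a b : List ℕ} (h : col a = col b) : ev (uW a) = ev (uW b) := by
  rw [← ev_col a, h, ev_col]

theorem ev_uW_append (a b : List ℕ) : ev (uW (a ++ b)) = ev (uW a) * ev (uW b) := by
  simp only [uW, List.flatMap_append, ev_append]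

theorem ev_uW_single (j : ℕ) : ev (uW [j]) = ev (uw j) := by simp [uW]

theorem uw_G1 (j : ℕ) : ev (uw j) ∈ G₁ := (mem_TG.1 (uw_even j).mem).1

theorem uW_G1 : ∀ l : List ℕ, ev (uW l) ∈ G₁
  | [] => by simp [uW, ev]
  | j :: l => by rw [show j :: l = [j] ++ l from rfl, ev_uW_append, ev_uW_single]; exact mul_mem (uw_G1 j) (uW_G1 l)

theorem hw_G1 (k : ℕ) : ev (hw k) ∈ G₁ := (mem_TG.1 (hw_mem k)).1

theorem gam_flat : ∀ l : List ℕ, (∀ i ∈ l, i < tbl.n) →
    ev gamW * ev (uW l) = ev (uW (l.flatMap fun i => gamConj.getD i [])) * ev gamW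
  | [], _ => by simp [uW, ev]
  | j :: l, h => by
    have hg := gam_ok
    simp only [Bool.and_eq_true, List.all_eq_true, List.mem_range] at hg
    have hj := ev_eqF (hg.1.1 j (h j (List.mem_cons_self ..))).1
    rw [ev_append, ev_append] at hj
    rw [show j :: l = [j] ++ l from rfl, ev_uW_append, ev_uW_single, List.flatMap_append, ev_uW_append,
      List.flatMap_cons, List.flatMap_nil, List.append_nil, ← mul_assoc, hj, mul_assoc,
      gam_flat l fun i hi => h i (List.mem_cons_of_mem _ hi), mul_assoc]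

theorem slice_flat {k : ℕ} : ∀ E : List ℕ, (∀ i ∈ E, i < tbl.sl.length ∧ (tbl.S i).1 = k) →
    ev (hw k) * ev (uW (tbl.qW E)) = ev (uW (tbl.fW E)) * ev (hw k)
  | [], _ => by simp [ChevGroup.PcLift.Tbl.qW, ChevGroup.PcLift.Tbl.fW, uW, ev]
  | i :: E, h => by
    obtain ⟨hi, rfl⟩ := h i (List.mem_cons_self ..)
    have hc := conj_ok
    simp only [List.all_eq_true, List.mem_range] at hc
    have e := ev_eqF (hc i hi)
    rw [ev_append, ev_append] at e
    simp only [ChevGroup.PcLift.Tbl.qW, ChevGroup.PcLift.Tbl.fW, List.flatMap_cons, ev_uW_append]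
    rw [← mul_assoc, e, mul_assoc,
      show ev (hw (tbl.S i).1) * ev (uW (E.flatMap fun x => (tbl.S x).2.1)) =
        ev (uW (E.flatMap fun x => (tbl.S x).2.2)) * ev (hw (tbl.S i).1) from
        slice_flat E fun x hx => h x (List.mem_cons_of_mem _ hx), mul_assoc]

theorem dec_lt {c i : ℕ} (h : i ∈ dec c) : i < tbl.n :=
  tbl_n.symm ▸ List.mem_range.1 (List.mem_filter.1 h).1

theorem step_spec {q : ℕ} {m : Step} {c d : ℕ} (h : stepB q m c d = true)
    (hd : Cov (ev (memW q d))) : Cov (ev (memW q c)) := by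
  cases m with
  | u j =>
    simp only [stepB, Bool.and_eq_true, decide_eq_true_eq] at h
    obtain ⟨⟨hq, -⟩, e⟩ := h
    obtain rfl := Nat.eq_of_beq_eq_true hq
    have e' := ev_of_col e
    rw [show j :: dec d = [j] ++ dec d from rfl, ev_uW_append, ev_uW_append] at e'
    simp only [memW, cellW, List.nil_append] at hd ⊢
    refine cov_of_conj (inv_mem (uW_G1 [j])) ?_ hd
    rw [inv_inv, mul_assoc, e', inv_mul_cancel_left]
  | g =>
    simp only [stepB, Bool.and_eq_true, decide_eq_true_eq] at h
    obtain ⟨hq, e⟩ := h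
    obtain rfl := Nat.eq_of_beq_eq_true hq
    simp only [memW, cellW, List.nil_append] at hd ⊢
    refine cov_of_conj gam_mem ?_ hd
    rw [gam_flat _ (fun i hi => dec_lt hi), mul_inv_cancel_right, ev_of_col e]
  | s k E =>
    simp only [stepB, Bool.and_eq_true, decide_eq_true_eq, List.all_eq_true] at h
    obtain ⟨⟨⟨hq, hE⟩, e1⟩, e2⟩ := h
    obtain rfl := Nat.eq_of_beq_eq_true hq
    simp only [memW, cellW, List.nil_append] at hd ⊢
    refine cov_of_conj (hw_G1 k) ?_ hd
    rw [← ev_of_col e1, slice_flat E hE, mul_inv_cancel_right, ev_of_col e2]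
  | n i =>
    simp only [stepB, Bool.and_eq_true, decide_eq_true_eq, Bool.not_eq_true'] at h
    obtain ⟨⟨⟨-, hi⟩, hq⟩, e⟩ := h
    have hk : cellW q = hw (tbl.S i).1 := by
      rw [hq, hw]
      split <;> rfl
    have hc := conj_ok
    simp only [List.all_eq_true, List.mem_range] at hc
    have e1 := ev_eqF (hc i hi)
    rw [ev_append, ev_append] at e1
    have e2 := ev_of_col e
    rw [ev_uW_append, ev_uW_append] at e2
    rw [memW, ev_append, hk] at hd ⊢
    refine cov_of_conj (inv_mem (uW_G1 (tbl.S i).2.2)) ?_ hd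
    rw [inv_inv, mul_assoc, mul_assoc, e2, ← mul_assoc (ev (hw _)), e1, mul_assoc, inv_mul_cancel_left]

theorem steps_spec {q : ℕ} : ∀ {l : List (ℕ × Step × ℕ)} {known fin : ℕ},
    stepsB q l known fin = true → (∀ c, known.testBit c = true → Cov (ev (memW q c))) →
      ∀ c, fin.testBit c = true → Cov (ev (memW q c))
  | [], known, fin, h, hk => Nat.eq_of_beq_eq_true h ▸ hk
  | (c, m, d) :: r, known, fin, h, hk => by
    simp only [stepsB, Bool.and_eq_true] at h
    obtain ⟨⟨hd, hm⟩, hr⟩ := h
    refine steps_spec hr fun e he => ?_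
    rw [Nat.testBit_or, Bool.or_eq_true, Nat.testBit_two_pow, decide_eq_true_eq] at he
    rcases he with he | rfl
    · exact hk e he
    · exact step_spec hm (hk d hd)

theorem reps_spec {q m : ℕ} (h : RepOK q m) (c : ℕ) (hc : m.testBit c = true) :
    Cov (ev (memW q c)) := by
  obtain ⟨a, b, hw⟩ := h c hc
  exact cov_of_wit hw

end Cfsg.Agent.F4Cover55Tits
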