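import Cfsg.Agent.F4Cover55Tits.Sylow

/-!
Witnesses for the elements of odd prime order, and the outer element.
-/

set_option autoImplicit false
set_option maxRecDepth 8000

namespace Cfsg.Agent.F4Cover55Tits

open Cfsg.Lie ChevCore Twisted Twisted.TypeF4 Twisted.Tits ChevGroup.TitsIdx ChevGroup.TitsMult

theorem wit3_ok : witB (wW wC) [4, 1, 3, 1, 4, 1, 0, 3, 1] [1, 4, 1, 0, 3, 1, 4, 0, 5, 3, 0] = true := by decide +kernel

theorem wit5_ok : witB (wW wA) [1] [5] = true := by decide +kernel

theorem wit13_ok : ((List.range 12).all fun i =>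
    witB (e13.getD (i + 1) []) (wit13.getD i ([], [])).1 (wit13.getD i ([], [])).2) = true := by
  decide +kernel

theorem gam_conj_ok : eqF (gamW ++ xW ++ gamW.reverse) (cw [2] xW) = true := by decide +kernel

theorem root_sq_ok : ((List.finRange MT.tab.n).all fun r => eqF [r, r] []) = true := by decide +kernel

end Cfsg.Agent.F4Cover55Tits
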