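import Cfsg.Agent.F4Cover55Tits.Points

/-!
Closure of the invariant set and fixed point counts.
-/

set_option autoImplicit false
set_option maxRecDepth 8000

namespace Cfsg.Agent.F4Cover55Tits

open Cfsg.Lie ChevCore Twisted Twisted.TypeF4 Twisted.Tits ChevGroup.TitsIdx ChevGroup.TitsMult

theorem pts_ok : incB ptsT.toList = true := by decide +kernel

theorem stable_nk : (stableB ptsT (nkV 0) && stableB ptsT (nkV 1)) = true := by decide +kernel

theorem fix5 : fixN ptsT (wW wA) = 5 := by decide +kernel

theorem fix3 : fixN ptsT (wW wC) = 0 := by decide +kernel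

theorem fix13 : fixN ptsT (wW wD) = 0 := by decide +kernel

theorem sum3 : sumN ptsT (wW wC) = 27 := by decide +kernel

end Cfsg.Agent.F4Cover55Tits
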