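import Cfsg.Agent.F4Cover55Tits.Defs

/-!
Sylow subgroups of odd order.
-/

set_option autoImplicit false
set_option maxRecDepth 8000

namespace Cfsg.Agent.F4Cover55Tits

open Cfsg.Lie ChevCore Twisted Twisted.TypeF4 Twisted.Tits ChevGroup.TitsIdx ChevGroup.TitsMult

/-- Conjugators for the elements of order three. -/
def conj3 : List (List ℕ) :=
  [[],
   [0],
   [4, 3, 4],
   [4, 1, 0, 3, 1, 0, 4, 2, 0, 3, 4],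
   [4, 0, 3, 4, 0, 5, 3, 0, 1, 0, 1, 4],
   [4, 3, 4, 0],
   [4, 1, 0, 3, 1, 4, 1, 3, 5, 0, 1, 4],
   [4, 0, 3, 4, 5, 3, 0, 1, 0, 1, 4],
   [4, 5, 0, 5, 1, 3, 4],
   [4, 1, 3, 0, 1, 0, 2, 4, 3, 0, 4],
   [4, 3, 0, 5, 4, 0, 1, 0, 1, 3, 0, 4],
   [1, 4, 0, 3, 4, 5, 3, 2, 4, 1],
   [1, 4, 1, 3, 5, 0, 5, 4, 1],
   [1, 4, 0, 3, 0, 4, 5, 0, 3, 4, 1],
   [0, 1, 4, 0, 3, 0, 4, 5, 0, 3, 4, 1, 0],
   [1, 4, 3, 0, 2, 4, 0, 3, 0, 4, 1],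
   [2, 3, 0, 1, 4, 1, 3, 4, 1, 0],
   [4, 2, 3, 1, 0, 1, 3, 4],
   [4, 1, 3, 5, 0, 4, 2, 0, 3, 4],
   [4, 3, 5, 4, 3, 0, 5, 0, 4],
   [1, 4, 5, 3, 2, 4, 3, 0, 4, 1],
   [0, 1, 4, 0, 3, 0, 4, 5, 0, 3, 4, 1],
   [2, 3, 0, 1, 4, 1, 3, 4, 1],
   [1, 4, 0, 3, 0, 4, 5, 0, 3, 4, 1, 0],
   [1, 4, 3, 1, 4, 1, 0, 3, 5],
   [1, 4, 0, 3, 0, 4, 3, 2, 0, 4, 0, 1]]

/-- Conjugators for the elements of order five. -/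
def conj5 : List (List ℕ) :=
  [[3, 4, 3],
   [3, 4, 3, 5],
   [3, 4, 3, 2],
   [3, 4, 3, 1],
   [],
   [3, 2, 0, 4, 3, 4, 0, 5, 1, 0, 1, 3],
   [3, 1, 0, 5, 4, 3, 0, 1, 0, 4, 5, 3],
   [3, 1, 0, 5, 4, 3, 0, 4, 5, 0, 3],
   [1, 3, 2, 0, 4, 3, 4, 1, 3, 1, 0, 5, 0],
   [5],
   [0, 2, 0, 1, 3, 1, 4, 3, 4, 0, 5, 3],
   [3, 2, 4, 3, 4, 0, 1, 0, 5, 1, 3],
   [3, 2, 4, 3, 1, 4, 0, 1, 0, 5, 1, 3],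
   [3, 0, 5, 0, 1, 4, 0, 3, 4, 0, 5, 3, 1],
   [2],
   [3, 0, 5, 0, 1, 4, 0, 3, 4, 0, 5, 3],
   [3, 2, 4, 3, 0, 1, 0, 4, 2, 0, 1, 3],
   [3, 0, 2, 4, 0, 3, 4, 2, 0, 1, 3],
   [3, 1, 0, 2, 1, 0, 4, 3, 4, 0, 5, 3],
   [1],
   [1, 3, 2, 0, 4, 3, 4, 0, 5, 1, 0, 1, 3],
   [3, 2, 1, 0, 1, 0, 4, 3, 4, 5, 3],
   [3, 2, 1, 0, 1, 0, 4, 3, 1, 4, 5, 3],
   [3, 2, 0, 4, 3, 4, 1, 3, 1, 0, 5, 0]]

/-- Witnesses for the powers of the element of order thirteen. -/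
def wit13 : List (List ℕ × List ℕ) :=
  [([4, 0, 1, 3, 0], [3, 1, 4, 0, 3, 0, 4, 3, 0, 2, 0]),
   ([1, 3, 1], []),
   ([1, 4, 3, 0, 5, 0, 4, 3, 1, 0], [0, 2, 3, 0, 1]),
   ([1, 4, 3, 1], [3, 1]),
   ([0, 1, 3, 1, 4, 3, 1, 0], [1, 0, 4, 5, 3, 0, 1]),
   ([3, 1, 4, 5, 3], [0, 4, 1, 3, 5]),
   ([3, 5, 0, 1, 0, 1, 0], [1, 0, 2, 3, 1, 4, 3]),
   ([1, 0, 4, 5, 3, 0], [0, 1, 3, 1, 4, 3, 1, 0, 1]),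
   ([3], [1, 4, 3]),
   ([0, 2, 3, 0], [1, 4, 3, 0, 5, 0, 4, 3, 1, 0, 1]),
   ([1], [1, 3]),
   ([3, 1, 0, 1, 0, 4, 3], [1, 4, 1, 3, 1, 0, 4, 3, 1, 0, 1])]

/-- The group of order 27. -/
def e3 : List (List (Fin MT.tab.n)) := [] :: conj3.map fun a => cw a (wW wC)

/-- The group of order 25. -/
def e5 : List (List (Fin MT.tab.n)) := [] :: conj5.map fun a => cw a (wW wA)

/-- The group of order 13. -/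
def e13 : List (List (Fin MT.tab.n)) := (List.range 13).map fun i => wW (List.replicate i wD).flatten

/-- A table of right multiplication. -/
def t3X : List ℕ := [9, 10, 11, 14, 12, 13, 16, 17, 15, 18, 19, 20, 23, 21, 22, 25, 26, 24, 0, 1, 2, 5, 3, 4, 7, 8, 6]

/-- A table of right multiplication. -/
def t3Y : List ℕ := [3, 4, 5, 6, 7, 8, 0, 1, 2, 12, 13, 14, 15, 16, 17, 9, 10, 11, 21, 22, 23, 24, 25, 26, 18, 19, 20]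

/-- A table of right multiplication. -/
def t5A : List ℕ := [5, 6, 7, 8, 9, 10, 11, 12, 13, 14, 15, 16, 17, 18, 19, 20, 21, 22, 23, 24, 0, 1, 2, 3, 4]

/-- A table of right multiplication. -/
def t5B : List ℕ := [1, 2, 3, 4, 0, 6, 7, 8, 9, 5, 11, 12, 13, 14, 10, 16, 17, 18, 19, 15, 21, 22, 23, 24, 20]

/-- A table of right multiplication. -/
def t13D : List ℕ := [1, 2, 3, 4, 5, 6, 7, 8, 9, 10, 11, 12, 0]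


end Cfsg.Agent.F4Cover55Tits
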