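import Cfsg.Agent.F4Cover55Tits.Sylow

/-!
Multiplication tables of the Sylow subgroups, part 0.
-/

set_option autoImplicit false
set_option maxRecDepth 8000

namespace Cfsg.Agent.F4Cover55Tits

open ChevGroup.TitsMult

theorem t3X_0 : stepEq e3 wX t3X 0 = true := by decide +kernel

theorem t3X_8 : stepEq e3 wX t3X 8 = true := by decide +kernel

theorem t3X_16 : stepEq e3 wX t3X 16 = true := by decide +kernel

theorem t3X_24 : stepEq e3 wX t3X 24 = true := by decide +kernel

theorem t3Y_5 : stepEq e3 wY t3Y 5 = true := by decide +kernel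

theorem t3Y_13 : stepEq e3 wY t3Y 13 = true := by decide +kernel

theorem t3Y_21 : stepEq e3 wY t3Y 21 = true := by decide +kernel

theorem t5A_2 : stepEq e5 wA t5A 2 = true := by decide +kernel

theorem t5A_10 : stepEq e5 wA t5A 10 = true := by decide +kernel

theorem t5A_18 : stepEq e5 wA t5A 18 = true := by decide +kernel

theorem t5B_1 : stepEq e5 wB t5B 1 = true := by decide +kernel

theorem t5B_9 : stepEq e5 wB t5B 9 = true := by decide +kernel

theorem t5B_17 : stepEq e5 wB t5B 17 = true := by decide +kernel

theorem t13D_0 : stepEq e13 wD t13D 0 = true := by decide +kernel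

theorem t13D_8 : stepEq e13 wD t13D 8 = true := by decide +kernel


end Cfsg.Agent.F4Cover55Tits
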