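import Cfsg.Agent.F4Cover55Tits.Defs

/-!
Witnesses for representatives, part 0.
-/

set_option autoImplicit false
set_option maxRecDepth 8000

namespace Cfsg.Agent.F4Cover55Tits

theorem wit0_1 : witB (memW 0 1) [1, 0, 4, 0, 1, 0] [1, 0, 1, 0] = true := by decide +kernel

theorem wit0_18 : witB (memW 0 18) [3, 4, 5, 0, 3, 0] [1, 0, 3, 1, 4, 3, 0, 4, 3] = true := by decide +kernel

theorem wit1_2 : witB (memW 1 2) [4, 3, 4, 3, 1, 0, 1, 0] [4, 0, 3, 4, 0, 2, 0, 1, 3] = true := by decide +kernel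

theorem wit1_5 : witB (memW 1 5) [4, 0, 3, 0, 4, 5, 3] [0, 4, 3, 1, 4, 3, 0, 2, 0] = true := by decide +kernel

theorem wit2_0 : witB (memW 2 0) [2, 0, 4, 3, 0] [0, 2, 4, 0, 3, 1, 0] = true := by decide +kernel

theorem wit2_32 : witB (memW 2 32) [0, 1, 0, 4, 0, 1, 3, 1, 4, 3, 0, 5] [3, 1, 4, 3, 0] = true := by decide +kernel

theorem wit2_9 : witB (memW 2 9) [0, 1, 0, 2, 0] [0, 5, 0] = true := by decide +kernel

theorem wit2_514 : witB (memW 2 514) [3, 0, 1, 0] [0, 4, 3, 1, 4, 1, 3, 0, 4, 0, 3] = true := by decide +kernel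

end Cfsg.Agent.F4Cover55Tits
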