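import Cfsg.Agent.F4Cover55Tits.OddWit
import Cfsg.Agent.ChevGroup.Tits.Multiplier

/-!
Words as elements: products of two conjugates of the base element and conjugation by the twisted group.
-/

set_option autoImplicit false
set_option maxRecDepth 4000

namespace Cfsg.Agent.F4Cover55Tits

open Cfsg.Lie ChevCore Twisted Twisted.TypeF4 Twisted.Tits ChevGroup.TitsIdx ChevGroup.TitsMult

local notation "KK" => Cfsg.Agent.ChevGroup.relsOfCommGood ChevCore.commGoodF4 (ZMod 2)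
local notation "G₁" => genG MT KK (f4Words (ZMod 2) (2 ^ 0))
local notation "DD" => Gens.data (gens fr card_two)

theorem ev_cons (r : Fin MT.tab.n) (w : List (Fin MT.tab.n)) : ev (r :: w) = ev [r] * ev w :=
  ev_append [r] w

theorem root_inv (r : Fin MT.tab.n) : (ev [r])⁻¹ = ev [r] := by
  have h := List.all_eq_true.1 root_sq_ok r (List.mem_finRange r)
  refine inv_eq_of_mul_eq_one_right ?_
  rw [← ev_append, List.singleton_append, ev_eqF h]
  rfl

theorem ev_rev : ∀ w : List (Fin MT.tab.n), ev w.reverse = (ev w)⁻¹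
  | [] => by simp [ev]
  | r :: w => by rw [List.reverse_cons, ev_append, ev_rev w, ev_cons r w, mul_inv_rev, root_inv]

theorem ev_cw (a : List ℕ) (w : List (Fin MT.tab.n)) :
    ev (cw a w) = ev (wW a) * ev w * (ev (wW a))⁻¹ := by rw [cw, ev_append, ev_append, ev_rev]

/-- The base element. -/
noncomputable def x0 : GG := ev xW

theorem x0_mem : x0 ∈ TG := wW_mem _

/-- Conjugate of the base element. -/
def Cls (y : GG) : Prop := ∃ t ∈ TG, y = t * x0 * t⁻¹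

/-- Product of two conjugates of the base element. -/
def Cov (g : GG) : Prop := ∃ y z, Cls y ∧ Cls z ∧ g = y * z

theorem gam_mem : ev gamW ∈ G₁ := (Subgroup.mem_inf.1 gam_even.2.2.1).1

theorem gam_x0 : ∃ s ∈ TG, ev gamW * x0 * (ev gamW)⁻¹ = s * x0 * s⁻¹ := by
  refine ⟨ev (wW [2]), wW_mem _, ?_⟩
  have h := ev_eqF gam_conj_ok
  rw [ev_append, ev_append, ev_rev, ev_cw] at h
  exact h

theorem mem_split {h : GG} (hh : h ∈ G₁) : h ∈ TG ∨ h * (ev gamW)⁻¹ ∈ TG := by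
  obtain ⟨p, hp, -⟩ := exists_Mv hh
  cases p
  · exact Or.inl (mem_TG.2 ⟨hh, hp⟩)
  · refine Or.inr (mem_TG.2 ⟨mul_mem hh (inv_mem gam_mem), ?_⟩)
    obtain ⟨-, -, hc, hchi⟩ := gam_even
    simpa using hp.mul (Mv.u1 (inv_mem hc) (chi_inv hc hchi))

theorem cls_conj {h y : GG} (hh : h ∈ G₁) (hy : Cls y) : Cls (h * y * h⁻¹) := by
  obtain ⟨t, ht, rfl⟩ := hy
  have hG : h * t ∈ G₁ := mul_mem hh (mem_TG.1 ht).1
  rcases mem_split hG with h1 | h1
  · exact ⟨h * t, h1, by group⟩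
  · obtain ⟨s, hs, e⟩ := gam_x0
    refine ⟨h * t * (ev gamW)⁻¹ * s, mul_mem h1 hs, ?_⟩
    calc h * (t * x0 * t⁻¹) * h⁻¹
        = h * t * (ev gamW)⁻¹ * (ev gamW * x0 * (ev gamW)⁻¹) * (h * t * (ev gamW)⁻¹)⁻¹ := by group
      _ = _ := by rw [e]; group

theorem cov_conj {h g : GG} (hh : h ∈ G₁) (hg : Cov g) : Cov (h * g * h⁻¹) := by
  obtain ⟨y, z, hy, hz, rfl⟩ := hg
  exact ⟨_, _, cls_conj hh hy, cls_conj hh hz, by group⟩

theorem cov_of_conj {h g g' : GG} (hh : h ∈ G₁) (e : h * g * h⁻¹ = g') (hg : Cov g') : Cov g := by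
  have := cov_conj (inv_mem hh) hg
  rw [← e] at this
  rwa [show h⁻¹ * (h * g * h⁻¹) * h⁻¹⁻¹ = g by group] at this

theorem cov_of_wit {w : List (Fin MT.tab.n)} {a b : List ℕ} (h : witB w a b = true) : Cov (ev w) := by
  refine ⟨_, _, ⟨_, wW_mem a, rfl⟩, ⟨_, wW_mem b, rfl⟩, ?_⟩
  rw [ev_eqF h, ev_append, ev_cw, ev_cw]
  rfl

theorem cov_cw {w : List (Fin MT.tab.n)} {a : List ℕ} (h : Cov (ev w)) : Cov (ev (cw a w)) := by
  rw [ev_cw]
  exact cov_conj (mem_TG.1 (wW_mem a)).1 h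

end Cfsg.Agent.F4Cover55Tits
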